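import Cfsg.Agent.Lib.Helper8.GrInv.Skew
import Cfsg.Agent.Lib.Helper7.AutPO.ClassifyOdd
import Mathlib

/-!
# Graph involutions of `PSL_n(F)`, `n` odd, odd characteristic (helper8)
-/

set_option autoImplicit false
set_option linter.unusedSectionVars false

namespace Cfsg.Agent.Lib.Helper8.GrInv

open Matrix Cfsg Cfsg.Agent.AutPSLCount Cfsg.Agent.Lib.H7AutPSL Cfsg.Agent.Lib.H7GraphInv
open Cfsg.Agent.Lib.H7AutPO

universe u

variable {F : Type u} [Field F] {n : ℕ}

/-- the inverse of an invertible symmetric matrix is symmetric -/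
theorem inv_symm (A : GL (Fin n) F) (hA : A.valᵀ = A.val) : A⁻¹.valᵀ = A⁻¹.val := by
  have h1 : A⁻¹.valᵀ * A.val = 1 := by
    rw [← hA, ← Matrix.transpose_mul, ← Units.val_mul, mul_inv_cancel, Units.val_one,
      Matrix.transpose_one]
  calc A⁻¹.valᵀ = A⁻¹.valᵀ * (A.val * A⁻¹.val) := by
        rw [← Units.val_mul, mul_inv_cancel, Units.val_one, Matrix.mul_one]
    _ = A⁻¹.val := by rw [← Matrix.mul_assoc, h1, Matrix.one_mul]

/-- symmetric graph involutions with similar inverse forms are conjugate -/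
theorem conj_of_sim [Fintype F] (hn : 2 ≤ n) (h2 : (2 : F) ≠ 0) (A B : GL (Fin n) F)
    (hA : A.valᵀ = A.val) (hB : B.valᵀ = B.val)
    (T : (Fin n → F) ≃ₗ[F] (Fin n → F)) (c : F) (hc : c ≠ 0)
    (hT : ∀ v, (T v) ⬝ᵥ (B⁻¹.val *ᵥ (T v)) = c * (v ⬝ᵥ (A⁻¹.val *ᵥ v))) :
    Cfsg.IsConjUnder (Cfsg.inndiagPSL n F) (Dh A * Γ : MulAut (PSLn n F)) (Dh B * Γ) := by
  rw [graph_conj_iff hn]
  obtain ⟨E, hE⟩ := exists_gl_of_equiv T
  have hAi := inv_symm A hA
  have hBi := inv_symm B hB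
  have key : E.valᵀ * B⁻¹.val * E.val = c • A⁻¹.val := by
    have hM : (E.valᵀ * B⁻¹.val * E.val - c • A⁻¹.val)ᵀ
        = E.valᵀ * B⁻¹.val * E.val - c • A⁻¹.val := by
      rw [Matrix.transpose_sub, Matrix.transpose_mul, Matrix.transpose_mul,
        Matrix.transpose_transpose, Matrix.transpose_smul, hBi, hAi, Matrix.mul_assoc]
    have := symm_quad_zero h2 _ hM (fun v => by
      rw [Matrix.sub_mulVec, dotProduct_sub, quad_conj, hE, hT, Matrix.smul_mulVec,
        dotProduct_smul, smul_eq_mul, sub_self])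
    exact sub_eq_zero.1 this
  refine ⟨E, Units.mk0 c hc, ?_⟩
  rw [Units.val_mk0]
  have hE2 : E.val * E⁻¹.val = 1 := by rw [← Units.val_mul, mul_inv_cancel, Units.val_one]
  have hA1 : A.val * A⁻¹.val = 1 := by rw [← Units.val_mul, mul_inv_cancel, Units.val_one]
  have hB1 : B⁻¹.val * B.val = 1 := by rw [← Units.val_mul, inv_mul_cancel, Units.val_one]
  have h3 : E.val * A.val * E.valᵀ * B⁻¹.val = c • 1 := by
    calc E.val * A.val * E.valᵀ * B⁻¹.val
        = E.val * A.val * (E.valᵀ * B⁻¹.val * E.val) * E⁻¹.val := by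
          simp only [Matrix.mul_assoc]
          rw [hE2, Matrix.mul_one]
      _ = c • 1 := by
          rw [key, Matrix.mul_smul, Matrix.smul_mul, Matrix.mul_assoc E.val, hA1, Matrix.mul_one,
            hE2]
  calc E.val * A.val * E.valᵀ = E.val * A.val * E.valᵀ * (B⁻¹.val * B.val) := by
        rw [hB1, Matrix.mul_one]
    _ = c • B.val := by rw [← Matrix.mul_assoc, h3, Matrix.smul_mul, Matrix.one_mul]

/-- no invertible skew-symmetric matrix of odd size in characteristic not two -/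
theorem not_skew_of_odd (h2 : (2 : F) ≠ 0) (hn : Odd n) (A : GL (Fin n) F)
    (hA : A.valᵀ = -A.val) : False := by
  have h1 : A.val.det = -A.val.det := by
    conv_lhs => rw [← Matrix.det_transpose, hA, Matrix.det_neg, Fintype.card_fin, hn.neg_one_pow]
    rw [neg_one_mul]
  have h3 : (2 : F) * A.val.det = 0 := by
    rw [two_mul]
    nth_rewrite 1 [h1]
    rw [neg_add_cancel]
  rcases mul_eq_zero.1 h3 with h | h
  · exact h2 h
  · have hu : IsUnit A.val.det := (Matrix.isUnit_iff_isUnit_det _).1 A.isUnit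
    exact hu.ne_zero h

section std

variable [Fintype F] {m : ℕ}

/-- the inverse form of an invertible symmetric matrix of odd size is similar to the standard
form -/
theorem exists_sim_odd (r : Fin n ≃ IO m) (h2 : (2 : F) ≠ 0) (A : GL (Fin n) F) (hA : A.valᵀ = A.val) :
    ∃ (e : (Fin n → F) ≃ₗ[F] (IO m → F)) (c : F), c ≠ 0 ∧
      ∀ v, Cfsg.quadFormOdd m F (e v) = c * (v ⬝ᵥ (A⁻¹.val *ᵥ v)) := by
  obtain ⟨M, hM⟩ : ∃ M : Matrix (IO m) (IO m) F, M = A⁻¹.val.submatrix r.symm r.symm := ⟨_, rfl⟩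
  obtain ⟨N, hN⟩ : ∃ N : Matrix (IO m) (IO m) F, N = A.val.submatrix r.symm r.symm := ⟨_, rfl⟩
  have hMs : Mᵀ = M := by
    rw [hM, Matrix.transpose_submatrix, inv_symm A hA]
  have hNM : N * M = 1 := by
    rw [hM, hN, Matrix.submatrix_mul_equiv, ← Units.val_mul, mul_inv_cancel, Units.val_one,
      Matrix.submatrix_one_equiv]
  have hback : M.submatrix r r = A⁻¹.val := by
    rw [hM]
    ext i j
    simp
  obtain ⟨T, a, ha, hT⟩ := exists_sim_std_odd m (qf M) (nondeg_qf h2 M hMs N hNM)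
  refine ⟨(eR r).trans T.symm, a⁻¹, inv_ne_zero ha, fun v => ?_⟩
  have h1 := hT (T.symm (eR r v))
  rw [LinearEquiv.apply_symm_apply, ← qf_sub, hback, qf_apply] at h1
  rw [LinearEquiv.trans_apply, h1, ← mul_assoc, inv_mul_cancel₀ ha, one_mul]

end std

end Cfsg.Agent.Lib.Helper8.GrInv
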