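import Cfsg.Agent.Lib.Helper8.GrInv.Std
import Mathlib

/-!
# The skew-symmetric involutory graph automorphism of `PSL_n(F)`, `n = 2m` (helper8)

All skew-symmetric graph involutions are conjugate under the inner-diagonal group, and the
centraliser of the standard one is `PGSp_{2m}(F)`.
-/

set_option autoImplicit false
set_option linter.unusedSectionVars false

namespace Cfsg.Agent.Lib.Helper8.GrInv

open Matrix Cfsg Cfsg.Agent.AutPSLCount Cfsg.Agent.Lib.H7AutPSL Cfsg.Agent.Lib.H7GraphInv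
open Cfsg.Agent.Lib.H7AutPSp

universe u

variable {F : Type u} [Field F]

/-- the standard alternating matrix, as an invertible matrix -/
def Ju (m : ℕ) : GL (Fin m ⊕ Fin m) F :=
  ⟨Matrix.J (Fin m) F, -Matrix.J (Fin m) F,
    by rw [Matrix.mul_neg, Matrix.J_squared, neg_neg],
    by rw [Matrix.neg_mul, Matrix.J_squared, neg_neg]⟩

theorem Ju_val (m : ℕ) : (Ju (F := F) m).val = Matrix.J (Fin m) F := rfl

theorem Ju_inv_val (m : ℕ) : (Ju (F := F) m)⁻¹.val = -Matrix.J (Fin m) F := rfl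

variable {n m : ℕ} (r : Fin n ≃ Fin m ⊕ Fin m)

/-- the matrix of the standard skew-symmetric graph involution -/
def A1 : GL (Fin n) F := subGL r (Ju m)

theorem A1_val : (A1 (F := F) r).val = (Matrix.J (Fin m) F).submatrix r r := rfl

theorem A1_inv_val : (A1 (F := F) r)⁻¹.val = -(A1 (F := F) r).val := by
  unfold A1
  rw [subGL_inv_val, Ju_inv_val, Matrix.submatrix_neg]
  rfl

theorem A1_transpose : (A1 (F := F) r).valᵀ = -(A1 (F := F) r).val := by
  rw [A1_val, Matrix.transpose_submatrix, Matrix.J_transpose, Matrix.submatrix_neg]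
  rfl

/-- **all skew-symmetric graph involutions are conjugate** to the standard one -/
theorem conj_skew [Finite F] (hn : 2 ≤ n) (h2 : (2 : F) ≠ 0) (A : GL (Fin n) F)
    (hA : A.valᵀ = -A.val) :
    Cfsg.IsConjUnder (Cfsg.inndiagPSL n F) (Dh A * Γ : MulAut (PSLn n F)) (Dh (A1 r) * Γ) := by
  rw [graph_conj_iff hn]
  set K : Matrix (Fin m ⊕ Fin m) (Fin m ⊕ Fin m) F := A.val.submatrix r.symm r.symm with hKdef
  have hK : Kᵀ = -K := by
    rw [hKdef, Matrix.transpose_submatrix, hA, Matrix.submatrix_neg]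
    rfl
  have hdiagA : ∀ j, A.val j j = 0 := by
    intro j
    have h1 := congrFun (congrFun hA j) j
    rw [Matrix.transpose_apply, Matrix.neg_apply] at h1
    have h3 : (2 : F) * A.val j j = 0 := by linear_combination h1
    rcases mul_eq_zero.1 h3 with h | h
    · exact absurd h h2
    · exact h
  have hdiag : ∀ i, K i i = 0 := fun i => hdiagA (r.symm i)
  have hdet : K.det ≠ 0 := by
    rw [hKdef, Matrix.det_submatrix_equiv_self]
    have : IsUnit A.val.det := (Matrix.isUnit_iff_isUnit_det A.val).1 ⟨A, rfl⟩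
    exact this.ne_zero
  obtain ⟨Q, hQu, hQ⟩ := alt_congr_J m K hK hdiag hdet
  have hQT : IsUnit Qᵀ := by
    rw [Matrix.isUnit_iff_isUnit_det, Matrix.det_transpose]
    exact (Matrix.isUnit_iff_isUnit_det Q).1 hQu
  have hAK : A.val = K.submatrix r r := by
    rw [hKdef, Matrix.submatrix_submatrix]
    ext i j
    simp
  refine ⟨subGL r hQT.unit, 1, ?_⟩
  rw [Units.val_one, one_smul, subGL_val, Matrix.transpose_submatrix, hAK]
  show (Qᵀ.submatrix r r) * K.submatrix r r * (Qᵀᵀ).submatrix r r = _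
  rw [Matrix.transpose_transpose, Matrix.submatrix_mul_equiv, Matrix.submatrix_mul_equiv, hQ]
  rfl

section cent

/-- a congruence, bilinearly -/
theorem bil_conj {ι : Type*} [Fintype ι] (h B : Matrix ι ι F) (u v : ι → F) :
    u ⬝ᵥ ((hᵀ * B * h) *ᵥ v) = (h *ᵥ u) ⬝ᵥ (B *ᵥ (h *ᵥ v)) := by
  rw [← Matrix.mulVec_mulVec, ← Matrix.mulVec_mulVec, Matrix.dotProduct_mulVec,
    Matrix.vecMul_transpose]

/-- a matrix is determined by its bilinear form -/
theorem eq_of_bil {ι : Type*} [Fintype ι] [DecidableEq ι] (M N : Matrix ι ι F)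
    (h : ∀ u v : ι → F, u ⬝ᵥ (M *ᵥ v) = u ⬝ᵥ (N *ᵥ v)) : M = N := by
  ext i j
  have := h (Pi.single i 1) (Pi.single j 1)
  rw [Matrix.mulVec_single_one, Matrix.mulVec_single_one, single_dotProduct, single_dotProduct,
    one_mul, one_mul] at this
  exact this

theorem sympForm_eR (u v : Fin n → F) :
    Cfsg.sympForm m F (eR r u) (eR r v) = u ⬝ᵥ ((A1 (F := F) r).val *ᵥ v) := by
  unfold Cfsg.sympForm
  rw [A1_val, dot_sub]
  rfl

theorem mem_centGL_A1_iff (hn : 2 ≤ n) (h : GL (Fin n) F) :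
    h ∈ centGL (Dh (A1 r) * Γ : MulAut (PSLn n F)) ↔ glCongr (eR r) h ∈ Cfsg.GSp m F := by
  have hAB : (A1 (F := F) r).val * (A1 (F := F) r)⁻¹.val = 1 := by
    rw [← Units.val_mul, mul_inv_cancel, Units.val_one]
  have hBA : (A1 (F := F) r)⁻¹.val * (A1 (F := F) r).val = 1 := by
    rw [← Units.val_mul, inv_mul_cancel, Units.val_one]
  have hh1 : h⁻¹.val * h.val = 1 := by rw [← Units.val_mul, inv_mul_cancel, Units.val_one]
  have hh2 : h.val * h⁻¹.val = 1 := by rw [← Units.val_mul, mul_inv_cancel, Units.val_one]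
  have hsymp : ∀ u v : Fin m ⊕ Fin m → F,
      Cfsg.sympForm m F ((glCongr (eR r) h).val *ᵥ u) ((glCongr (eR r) h).val *ᵥ v)
        = ((eR (F := F) r).symm u) ⬝ᵥ
          ((h.valᵀ * (A1 (F := F) r).val * h.val) *ᵥ ((eR (F := F) r).symm v)) := by
    intro u v
    rw [glCongr_mulVec, glCongr_mulVec, sympForm_eR, bil_conj]
  rw [mem_centGL_graph hn]
  constructor
  · rintro ⟨d, hd⟩
    have h1 := congr_inv_form h.val h⁻¹.val _ _ hAB hBA hh1 d hd
    rw [A1_inv_val, Matrix.mul_neg, Matrix.neg_mul, smul_neg, neg_inj] at h1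
    refine ⟨d, fun u v => ?_⟩
    rw [hsymp, h1, Matrix.smul_mulVec, dotProduct_smul, smul_eq_mul, ← sympForm_eR,
      LinearEquiv.apply_symm_apply, LinearEquiv.apply_symm_apply]
  · rintro ⟨d, hd⟩
    have h1 : h.valᵀ * (A1 (F := F) r).val * h.val = (d : F) • (A1 (F := F) r).val := by
      apply eq_of_bil
      intro u v
      have := hd (eR r u) (eR r v)
      rw [hsymp, LinearEquiv.symm_apply_apply, LinearEquiv.symm_apply_apply, sympForm_eR] at this
      rw [this, Matrix.smul_mulVec, dotProduct_smul, smul_eq_mul]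
    refine ⟨d, ?_⟩
    have h3 : h⁻¹.valᵀ * h.valᵀ = 1 := by
      rw [← Matrix.transpose_mul, hh2, Matrix.transpose_one]
    have h4 := congr_inv_form h.valᵀ h⁻¹.valᵀ _ _ hAB hBA h3 d
      (by rw [Matrix.transpose_transpose]; exact h1)
    rw [Matrix.transpose_transpose, A1_inv_val, Matrix.mul_neg, Matrix.neg_mul, smul_neg,
      neg_inj] at h4
    exact h4

/-- **the centraliser of the standard skew-symmetric graph involution is `PGSp`** -/
theorem cent_A1 (hn : 2 ≤ n) :
    Nonempty (↥(Cfsg.inndiagPSL n F ⊓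
      Subgroup.centralizer {(Dh (A1 r) * Γ : MulAut (PSLn n F))}) ≃* Cfsg.PGSp m F) := by
  rw [inndiag_eq_Dsub]
  obtain ⟨e1⟩ := cent_equiv_projQuot hn (Dh (A1 r) * Γ : MulAut (PSLn n F)) _ rfl
  obtain ⟨e2⟩ := projQuot_congr (centGL (Dh (A1 r) * Γ : MulAut (PSLn n F))) (Cfsg.GSp m F)
    (glCongr (eR r)) (mem_centGL_A1_iff r hn) (glCongr_scalars (eR r))
  exact ⟨e1.trans e2⟩

end cent

end Cfsg.Agent.Lib.Helper8.GrInv
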