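import Cfsg.Agent.Lib.Helper7.GraphInv.GraphSim
import Cfsg.Agent.Lib.Helper7.GraphInv.DotType
import Cfsg.Agent.Lib.Helper8.QTypeD
import Mathlib

/-!
# Involutory graph automorphisms of `PSL_n(F)`: normal form, conjugacy, types (helper8)

On top of helper7's `GraphInv` library (`Dh A * Γ`, its square, conjugates and centraliser) and
helper8's theory of the type of a quadratic form over a finite field.
-/

set_option autoImplicit false
set_option linter.unusedSectionVars false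

namespace Cfsg.Agent.Lib.Helper8.GrInv

open Matrix Cfsg Cfsg.Agent.AutPSLCount Cfsg.Agent.Lib.H7AutPSL Cfsg.Agent.Lib.H7GraphInv
open Cfsg.Agent.Lib.Helper8.QType QuadraticMap Module

universe u

variable {F : Type u} [Field F] {n : ℕ}

/-! ### generalities on conjugacy under a subgroup -/

theorem isConjUnder_symm {X : Type*} [Group X] (H : Subgroup X) {x y : X}
    (h : Cfsg.IsConjUnder H x y) : Cfsg.IsConjUnder H y x := by
  obtain ⟨k, hk, rfl⟩ := h
  refine ⟨k⁻¹, H.inv_mem hk, ?_⟩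
  group

theorem isConjUnder_trans {X : Type*} [Group X] (H : Subgroup X) {x y z : X}
    (h₁ : Cfsg.IsConjUnder H x y) (h₂ : Cfsg.IsConjUnder H y z) : Cfsg.IsConjUnder H x z := by
  obtain ⟨k, hk, rfl⟩ := h₁
  obtain ⟨k', hk', rfl⟩ := h₂
  refine ⟨k' * k, H.mul_mem hk' hk, ?_⟩
  group

/-! ### the transpose of an invertible matrix -/

/-- the transpose, as an invertible matrix -/
def gtr (g : GL (Fin n) F) : GL (Fin n) F := (gti g)⁻¹

theorem gtr_val (g : GL (Fin n) F) : (gtr g).val = g.valᵀ := gti_inv_val g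

theorem gtr_inv_val (g : GL (Fin n) F) : (gtr g)⁻¹.val = g⁻¹.valᵀ := by
  unfold gtr
  rw [inv_inv, gti_val]

/-! ### the normal form of an involutory graph automorphism -/

theorem graph_normal_form (hn : 3 ≤ n) (γ : MulAut (PSLn n F)) (hγ : Cfsg.IsGraphAutClassPSL γ)
    (h2 : orderOf γ = 2) :
    ∃ A : GL (Fin n) F, γ = Dh A * Γ ∧ (A.valᵀ = A.val ∨ A.valᵀ = -A.val) := by
  obtain ⟨-, δ, γ', hδ, hγ', rfl⟩ := hγ
  obtain ⟨A, rfl⟩ := (innerDiag_iff δ).1 hδ
  have hΓ : γ' = Γ := (invTr_iff γ').1 hγ'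
  subst hΓ
  refine ⟨A, rfl, ?_⟩
  apply (graph_sq_eq_one_iff (by omega) A).1
  rw [← h2]
  exact pow_orderOf_eq_one _

theorem graph_isGraphAutClass (hn : 3 ≤ n) (A : GL (Fin n) F) :
    Cfsg.IsGraphAutClassPSL (Dh A * Γ : MulAut (PSLn n F)) :=
  ⟨hn, Dh A, Γ, (innerDiag_iff _).2 ⟨A, rfl⟩, (invTr_iff _).2 rfl, rfl⟩

/-! ### conjugacy under the inner-diagonal group -/

theorem graph_conj_iff (hn : 2 ≤ n) (A B : GL (Fin n) F) :
    Cfsg.IsConjUnder (Cfsg.inndiagPSL n F) (Dh A * Γ : MulAut (PSLn n F)) (Dh B * Γ) ↔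
      ∃ (g : GL (Fin n) F) (d : Fˣ), g.val * A.val * g.valᵀ = (d : F) • B.val := by
  rw [inndiag_eq_Dsub]
  constructor
  · rintro ⟨k, ⟨g, rfl⟩, hk⟩
    rw [graph_conj, mul_left_inj, Dh_eq_iff' hn, graph_conj_val] at hk
    obtain ⟨d, hd⟩ := hk
    refine ⟨g, d⁻¹, ?_⟩
    rw [hd, smul_smul, Units.val_inv_eq_inv_val, inv_mul_cancel₀ d.ne_zero, one_smul]
  · rintro ⟨g, d, hd⟩
    refine ⟨Dh g, ⟨g, rfl⟩, ?_⟩
    rw [graph_conj, mul_left_inj, Dh_eq_iff' hn, graph_conj_val]
    refine ⟨d⁻¹, ?_⟩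
    rw [hd, smul_smul, Units.val_inv_eq_inv_val, inv_mul_cancel₀ d.ne_zero, one_smul]

/-- passing to the inverse matrices in a congruence -/
theorem inv_form_of_congr (g A B : GL (Fin n) F) (d : F)
    (h : g.val * A.val * g.valᵀ = d • B.val) :
    g.valᵀ * B⁻¹.val * g.val = d • A⁻¹.val := by
  have hA : A.val * A⁻¹.val = 1 := by rw [← Units.val_mul, mul_inv_cancel, Units.val_one]
  have hB : B⁻¹.val * B.val = 1 := by rw [← Units.val_mul, inv_mul_cancel, Units.val_one]
  have hg : g.valᵀ * g⁻¹.valᵀ = 1 := by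
    rw [← Matrix.transpose_mul, ← Units.val_mul, inv_mul_cancel, Units.val_one,
      Matrix.transpose_one]
  have hg' : g⁻¹.val * g.val = 1 := by rw [← Units.val_mul, inv_mul_cancel, Units.val_one]
  have key : g.valᵀ * B⁻¹.val * g.val * A.val = d • 1 := by
    calc g.valᵀ * B⁻¹.val * g.val * A.val
        = g.valᵀ * B⁻¹.val * (g.val * A.val * g.valᵀ) * g⁻¹.valᵀ := by
          simp only [Matrix.mul_assoc]
          rw [hg, Matrix.mul_one]
      _ = d • 1 := by
          rw [h, Matrix.mul_smul, Matrix.smul_mul, Matrix.mul_assoc (g.valᵀ), hB, Matrix.mul_one,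
            hg]
  calc g.valᵀ * B⁻¹.val * g.val
      = g.valᵀ * B⁻¹.val * g.val * A.val * A⁻¹.val := by
        rw [Matrix.mul_assoc _ A.val, hA, Matrix.mul_one]
    _ = d • A⁻¹.val := by rw [key, Matrix.smul_mul, Matrix.one_mul]

/-- a skew-symmetric graph involution is not conjugate to a symmetric one -/
theorem not_conj_skew_symm (hn : 2 ≤ n) (h2 : (2 : F) ≠ 0) (A B : GL (Fin n) F)
    (hA : A.valᵀ = -A.val) (hB : B.valᵀ = B.val) :
    ¬ Cfsg.IsConjUnder (Cfsg.inndiagPSL n F) (Dh A * Γ : MulAut (PSLn n F)) (Dh B * Γ) := by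
  rw [graph_conj_iff hn]
  rintro ⟨g, d, hd⟩
  have h1 := congrArg Matrix.transpose hd
  rw [Matrix.transpose_mul, Matrix.transpose_mul, Matrix.transpose_transpose, hA,
    Matrix.transpose_smul, hB] at h1
  have h4 : (d : F) • B.val = -((d : F) • B.val) := by
    calc (d : F) • B.val = g.val * (-A.val * g.valᵀ) := h1.symm
      _ = -(g.val * A.val * g.valᵀ) := by
          rw [Matrix.neg_mul, Matrix.mul_neg, Matrix.mul_assoc]
      _ = -((d : F) • B.val) := by rw [hd]
  have h3 : ((2 : F) * d) • B.val = 0 := by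
    rw [mul_smul, two_smul]
    nth_rewrite 2 [h4]
    exact add_neg_cancel _
  have hB0 : B.val = 0 := by
    rcases smul_eq_zero.1 h3 with h | h
    · exact absurd h (mul_ne_zero h2 d.ne_zero)
    · exact h
  have hone : B.val * B⁻¹.val = 1 := by rw [← Units.val_mul, mul_inv_cancel, Units.val_one]
  rw [hB0, Matrix.zero_mul] at hone
  have := congrFun (congrFun hone ⟨0, by omega⟩) ⟨0, by omega⟩
  rw [Matrix.zero_apply, Matrix.one_apply_eq] at this
  exact zero_ne_one this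

end Cfsg.Agent.Lib.Helper8.GrInv
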