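import Cfsg.Agent.Lib.Helper8.GrInv.OddDim
import Cfsg.Agent.Lib.Helper5.AltEven
import Cfsg.Agent.H9.SympEmbed
import Cfsg.Agent.S0304
import Mathlib

/-!
# Symmetric matrices of odd size over a finite field of characteristic two (helper8)

An invertible symmetric matrix of size `2m+1` over a finite field of characteristic two is
congruent to `diag(1, J)`.
-/

set_option autoImplicit false
set_option linter.unusedSectionVars false

namespace Cfsg.Agent.Lib.Helper8.GrInv

open Matrix Cfsg Cfsg.Agent.Lib.H7AutPSp Cfsg.Agent.Lib.H7AutPO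
open Cfsg.Agent.S0304 (sqrt sqrt_sq sqrt_unique sqrt_add sqrt_sq_mul)

universe u

variable {F : Type u} [Field F] [Fintype F] [CharP F 2] {n : ℕ}

/-- the square roots of the diagonal entries -/
noncomputable def dvec (A : Matrix (Fin n) (Fin n) F) : Fin n → F := fun i => sqrt (A i i)

/-- in characteristic two the quadratic form of a symmetric matrix is the square of a linear
form -/
theorem quad_eq_sq (A : Matrix (Fin n) (Fin n) F) (hA : Aᵀ = A) (v : Fin n → F) :
    v ⬝ᵥ (A *ᵥ v) = (dvec A ⬝ᵥ v) ^ 2 := by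
  obtain ⟨K, hK⟩ : ∃ K, K = A + Matrix.diagonal (fun i => A i i) := ⟨_, rfl⟩
  have hKt : Kᵀ = -K := by
    have h1 : -K = K := by
      ext i j
      rw [Matrix.neg_apply, CharTwo.neg_eq]
    rw [h1, hK, Matrix.transpose_add, hA, Matrix.diagonal_transpose]
  have hKd : ∀ i, K i i = 0 := by
    intro i
    rw [hK, Matrix.add_apply, Matrix.diagonal_apply_eq, CharTwo.add_self_eq_zero]
  have h0 := alt_dotProduct K hKt hKd v
  rw [hK, Matrix.add_mulVec, dotProduct_add, CharTwo.add_eq_zero] at h0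
  rw [h0]
  unfold dotProduct
  rw [sum_pow_char 2]
  apply Finset.sum_congr rfl
  intro i _
  rw [Matrix.mulVec_diagonal, mul_pow]
  unfold dvec
  rw [sqrt_sq]
  ring

/-- the rank-one matrix `s sᵀ` -/
theorem outer_mulVec (s v : Fin n → F) :
    (Matrix.of fun i j => s i * s j) *ᵥ v = (s ⬝ᵥ v) • s := by
  funext i
  unfold Matrix.mulVec dotProduct
  rw [Pi.smul_apply, smul_eq_mul, Finset.sum_mul]
  apply Finset.sum_congr rfl
  intro j _
  show s i * s j * v j = s j * v j * s i
  ring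

/-- the vector `a = A⁻¹ s` representing the linear form `s` has `s · a = 1` when the size is
odd -/
theorem center_dot (hn : Odd n) (A : GL (Fin n) F) (hA : A.valᵀ = A.val) :
    dvec A.val ⬝ᵥ (A⁻¹.val *ᵥ dvec A.val) = 1 := by
  obtain ⟨s, hs⟩ : ∃ s, s = dvec A.val := ⟨_, rfl⟩
  rw [← hs]
  obtain ⟨N, hN⟩ : ∃ N, N = A.val + Matrix.of fun i j => s i * s j := ⟨_, rfl⟩
  have halt : ∀ v : Fin n → F, v ⬝ᵥ (N *ᵥ v) = 0 := by
    intro v
    rw [hN, Matrix.add_mulVec, dotProduct_add, quad_eq_sq A.val hA, outer_mulVec, ← hs,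
      dotProduct_smul, smul_eq_mul, dotProduct_comm v s, ← sq, CharTwo.add_self_eq_zero]
  have heven := Cfsg.Agent.Lib.Helper5.AltEven.even_rank_of_alt N halt
  have hdet : N.det = 0 := by
    by_contra hne
    have hu : IsUnit N := (Matrix.isUnit_iff_isUnit_det N).2 (isUnit_iff_ne_zero.2 hne)
    have := Matrix.rank_of_isUnit N hu
    rw [Fintype.card_fin] at this
    rw [this] at heven
    exact (Nat.not_even_iff_odd.2 hn) heven
  obtain ⟨v, hv0, hv⟩ := (Matrix.exists_mulVec_eq_zero_iff (M := N)).2 hdet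
  rw [hN, Matrix.add_mulVec, outer_mulVec] at hv
  have hneg : -((s ⬝ᵥ v) • s) = (s ⬝ᵥ v) • s := by
    funext i
    rw [Pi.neg_apply, CharTwo.neg_eq]
  replace hv := eq_neg_of_add_eq_zero_left hv
  rw [hneg] at hv
  have h1 : v = (s ⬝ᵥ v) • (A⁻¹.val *ᵥ s) := by
    have := congrArg (fun w => A⁻¹.val *ᵥ w) hv
    simp only [Matrix.mulVec_mulVec, Matrix.mulVec_smul] at this
    rw [← Units.val_mul, inv_mul_cancel, Units.val_one, Matrix.one_mulVec] at this
    exact this
  have ht : s ⬝ᵥ v ≠ 0 := by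
    intro h0
    apply hv0
    rw [h1, h0, zero_smul]
  have h2 : s ⬝ᵥ v = (s ⬝ᵥ v) * (s ⬝ᵥ (A⁻¹.val *ᵥ s)) := by
    conv_lhs => rw [h1]
    rw [dotProduct_smul, smul_eq_mul]
  have h3 : (s ⬝ᵥ v) * (s ⬝ᵥ (A⁻¹.val *ᵥ s)) = (s ⬝ᵥ v) * 1 := by rw [← h2, mul_one]
  exact mul_left_cancel₀ ht h3

/-- the standard symmetric matrix `diag(1, J)` -/
def M0 (m : ℕ) : Matrix (IO m) (IO m) F := Matrix.fromBlocks 1 0 0 (Matrix.J (Fin m) F)

theorem M0_det_ne_zero (m : ℕ) : (M0 (F := F) m).det ≠ 0 := by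
  unfold M0
  rw [Matrix.det_fromBlocks_zero₂₁, Matrix.det_one, one_mul]
  exact (Matrix.isUnit_det_J (Fin m) F).ne_zero

/-- `g A gᵀ` through dot products of rows -/
theorem congr_apply' (A g : Matrix (Fin n) (Fin n) F) (i j : Fin n) :
    (g * A * gᵀ) i j = (g i) ⬝ᵥ (A *ᵥ (g j)) := by
  have := congr_apply A gᵀ i j
  rw [Matrix.transpose_transpose] at this
  exact this

open Module in
/-- **an invertible symmetric matrix of odd size in characteristic two is congruent to
`diag(1, J)`** -/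
theorem exists_std {m : ℕ} (hnm : n = 2 * m + 1) (r : Fin n ≃ IO m) (A : GL (Fin n) F)
    (hA : A.valᵀ = A.val) :
    ∃ g : GL (Fin n) F, g.val * A.val * g.valᵀ = (M0 m).submatrix r r := by
  classical
  obtain ⟨s, hs⟩ : ∃ s, s = dvec A.val := ⟨_, rfl⟩
  obtain ⟨a, ha⟩ : ∃ a, a = A⁻¹.val *ᵥ s := ⟨_, rfl⟩
  have hsa : s ⬝ᵥ a = 1 := by
    rw [ha, hs]
    exact center_dot ⟨m, hnm⟩ A hA
  have hAa : A.val *ᵥ a = s := by
    rw [ha, Matrix.mulVec_mulVec, ← Units.val_mul, mul_inv_cancel, Units.val_one,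
      Matrix.one_mulVec]
  let B : LinearMap.BilinForm F (Fin n → F) := Matrix.toBilin' A.val
  have hB : ∀ u v, B u v = u ⬝ᵥ (A.val *ᵥ v) := fun u v => Matrix.toBilin'_apply' A.val u v
  have hBsymm : ∀ u v, B u v = B v u := by
    intro u v
    rw [hB, hB, Matrix.dotProduct_mulVec, ← Matrix.mulVec_transpose, hA, dotProduct_comm]
  have hBa : ∀ v, B a v = s ⬝ᵥ v := by
    intro v
    rw [hBsymm, hB, hAa, dotProduct_comm]
  have hBvv : ∀ v, B v v = (s ⬝ᵥ v) ^ 2 := by
    intro v
    rw [hB, quad_eq_sq A.val hA, hs]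
  obtain ⟨W, hW⟩ : ∃ W : Submodule F (Fin n → F), W = LinearMap.ker (B a) := ⟨_, rfl⟩
  have hWmem : ∀ v, v ∈ W ↔ s ⬝ᵥ v = 0 := by
    intro v
    rw [hW, LinearMap.mem_ker, hBa]
  have hφ : B a ≠ 0 := by
    intro h
    have := hBa a
    rw [h, hsa, LinearMap.zero_apply] at this
    exact zero_ne_one this
  have hdim : finrank F W = 2 * m := by
    have := Module.Dual.finrank_ker_add_one_of_ne_zero (f := B a) hφ
    rw [Module.finrank_fintype_fun_eq_card, Fintype.card_fin, ← hW] at this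
    omega
  have hWalt : (B.restrict W).IsAlt := by
    intro w
    show B w w = 0
    rw [hBvv, (hWmem _).1 w.2]
    ring
  have hWnd : (B.restrict W).Nondegenerate := by
    have key : ∀ w : W, (∀ w' : W, B w w' = 0) → w = 0 := by
      intro w hw
      apply Subtype.ext
      -- `B w = 0` on all of the space
      have hall : ∀ x : Fin n → F, (w : Fin n → F) ⬝ᵥ (A.val *ᵥ x) = 0 := by
        intro x
        have hx : x - (s ⬝ᵥ x) • a ∈ W := by
          rw [hWmem, dotProduct_sub, dotProduct_smul, hsa, smul_eq_mul, mul_one, sub_self]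
        have h1 := hw ⟨_, hx⟩
        simp only [map_sub, map_smul] at h1
        rw [hBsymm (w : Fin n → F) a, hBa, (hWmem _).1 w.2, smul_zero, sub_zero, hB] at h1
        exact h1
      have h2 : Matrix.vecMul (w : Fin n → F) A.val = 0 := by
        funext j
        have := hall (Pi.single j 1)
        rw [Matrix.dotProduct_mulVec, dotProduct_single, mul_one] at this
        exact this
      have h3 := congrArg (fun u => Matrix.vecMul u A⁻¹.val) h2
      simp only [Matrix.vecMul_vecMul, Matrix.zero_vecMul] at h3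
      rw [← Units.val_mul, mul_inv_cancel, Units.val_one, Matrix.vecMul_one] at h3
      exact h3
    constructor
    · intro w hw
      exact key w hw
    · intro w hw
      apply key w
      intro w'
      have := hw w'
      change B w' w = 0 at this
      rw [hBsymm, this]
  obtain ⟨b, hb⟩ := Cfsg.Agent.H9.SympEmbed.exists_symplectic_basis (B.restrict W) hWnd hWalt m hdim
  obtain ⟨rows, hrows⟩ : ∃ rows : IO m → (Fin n → F),
      rows = Sum.elim (fun _ => a) (fun k => ((b k : W) : Fin n → F)) := ⟨_, rfl⟩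
  obtain ⟨g, hg⟩ : ∃ g : Matrix (Fin n) (Fin n) F, g = Matrix.of fun i => rows (r i) := ⟨_, rfl⟩
  have hgram : ∀ x y : IO m, B (rows x) (rows y) = M0 m x y := by
    intro x y
    rw [hrows]
    rcases x with x | x <;> rcases y with y | y
    · simp only [Sum.elim_inl, M0, Matrix.fromBlocks_apply₁₁, Matrix.one_apply_eq]
      rw [hBa, hsa]
    · simp only [Sum.elim_inl, Sum.elim_inr, M0, Matrix.fromBlocks_apply₁₂, Matrix.zero_apply]
      rw [hBa, (hWmem _).1 (b y).2]
    · simp only [Sum.elim_inl, Sum.elim_inr, M0, Matrix.fromBlocks_apply₂₁, Matrix.zero_apply]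
      rw [hBsymm, hBa, (hWmem _).1 (b x).2]
    · simp only [Sum.elim_inr, M0, Matrix.fromBlocks_apply₂₂]
      exact hb x y
  have hcong : g * A.val * gᵀ = (M0 m).submatrix r r := by
    ext i j
    rw [congr_apply', ← hB, Matrix.submatrix_apply, ← hgram, hg]
    rfl
  have hdet : g.det ≠ 0 := by
    intro h0
    have := congrArg Matrix.det hcong
    rw [Matrix.det_mul, Matrix.det_mul, h0, zero_mul, zero_mul,
      Matrix.det_submatrix_equiv_self] at this
    exact M0_det_ne_zero m this.symm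
  exact ⟨Matrix.GeneralLinearGroup.mkOfDetNeZero g hdet, hcong⟩

end Cfsg.Agent.Lib.Helper8.GrInv
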