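import Cfsg.Agent.Lib.Helper8.GrInv.CharTwo
import Mathlib

/-!
# Centralisers of graph involutions of `PSL_n(F)`, `n` odd, characteristic two (helper8)
-/

set_option autoImplicit false
set_option linter.unusedSectionVars false

namespace Cfsg.Agent.Lib.Helper8.GrInv

open Matrix Cfsg Cfsg.Agent.AutPSLCount Cfsg.Agent.Lib.H7AutPSL Cfsg.Agent.Lib.H7GraphInv
open Cfsg.Agent.Lib.H7AutPSp Cfsg.Agent.Lib.H7AutPO
open Cfsg.Agent.S0304 (sqrt sqrt_sq sqrt_unique sqrt_add sqrt_sq_mul)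

universe u

section grp

variable {X : Type*} [Group X]

/-- conjugate elements have isomorphic centralisers in `D` (conjugation by an element of `D`) -/
theorem cent_equiv_of_conj (D : Subgroup X) (x y : X) (h : Cfsg.IsConjUnder D x y) :
    Nonempty (↥(D ⊓ Subgroup.centralizer {x}) ≃* ↥(D ⊓ Subgroup.centralizer {y})) := by
  obtain ⟨d, hd, rfl⟩ := h
  have heq : (D ⊓ Subgroup.centralizer {x}).map (MulAut.conj d).toMonoidHom
      = D ⊓ Subgroup.centralizer {d * x * d⁻¹} := by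
    ext c
    rw [Subgroup.mem_map, Subgroup.mem_inf, Subgroup.mem_centralizer_singleton_iff]
    constructor
    · rintro ⟨k, hk, rfl⟩
      obtain ⟨hkD, hkc⟩ := Subgroup.mem_inf.1 hk
      rw [Subgroup.mem_centralizer_singleton_iff] at hkc
      refine ⟨?_, ?_⟩
      · show d * k * d⁻¹ ∈ D
        exact D.mul_mem (D.mul_mem hd hkD) (D.inv_mem hd)
      · show d * k * d⁻¹ * (d * x * d⁻¹) = d * x * d⁻¹ * (d * k * d⁻¹)
        calc d * k * d⁻¹ * (d * x * d⁻¹) = d * (k * x) * d⁻¹ := by group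
          _ = d * (x * k) * d⁻¹ := by rw [hkc]
          _ = d * x * d⁻¹ * (d * k * d⁻¹) := by group
    · rintro ⟨hcD, hcc⟩
      refine ⟨d⁻¹ * c * d, Subgroup.mem_inf.2 ⟨?_, ?_⟩, ?_⟩
      · exact D.mul_mem (D.mul_mem (D.inv_mem hd) hcD) hd
      · rw [Subgroup.mem_centralizer_singleton_iff]
        calc d⁻¹ * c * d * x = d⁻¹ * (c * (d * x * d⁻¹)) * d := by group
          _ = d⁻¹ * ((d * x * d⁻¹) * c) * d := by rw [hcc]
          _ = x * (d⁻¹ * c * d) := by group
      · show d * (d⁻¹ * c * d) * d⁻¹ = c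
        group
  exact ⟨(Subgroup.equivMapOfInjective _ (MulAut.conj d).toMonoidHom
    (MulAut.conj d).injective).trans (MulEquiv.subgroupCongr heq)⟩

end grp

section compl

variable {F : Type u} [Field F] {ι : Type} [Fintype ι] [DecidableEq ι]

/-- a subgroup meeting the scalars trivially and covering `H` modulo scalars is isomorphic to
`projQuot H` -/
theorem projQuot_of_compl (H O : Subgroup (GL ι F)) (hOH : O ≤ H)
    (hdisj : ∀ g ∈ O, g ∈ Cfsg.Geo.scalars ι F → g = 1)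
    (hgen : ∀ h ∈ H, ∃ z ∈ Cfsg.Geo.scalars ι F, h * z ∈ O) :
    Nonempty (↥O ≃* Cfsg.projQuot H) := by
  let φ : ↥O →* Cfsg.projQuot H :=
    (QuotientGroup.mk' ((Cfsg.Geo.scalars ι F).subgroupOf H)).comp (Subgroup.inclusion hOH)
  have hinj : Function.Injective φ := by
    rw [injective_iff_map_eq_one]
    intro g hg
    have h1 : (QuotientGroup.mk (Subgroup.inclusion hOH g) : Cfsg.projQuot H) = 1 := hg
    rw [QuotientGroup.eq_one_iff, Subgroup.mem_subgroupOf] at h1
    apply Subtype.ext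
    exact hdisj g.1 g.2 h1
  have hsurj : Function.Surjective φ := by
    intro x
    obtain ⟨⟨h, hh⟩, rfl⟩ := QuotientGroup.mk_surjective x
    obtain ⟨z, hz, hzO⟩ := hgen h hh
    refine ⟨⟨h * z, hzO⟩, ?_⟩
    show (QuotientGroup.mk (Subgroup.inclusion hOH ⟨h * z, hzO⟩) : Cfsg.projQuot H) = _
    rw [QuotientGroup.eq, Subgroup.mem_subgroupOf]
    show (h * z)⁻¹ * h ∈ Cfsg.Geo.scalars ι F
    have : (h * z)⁻¹ * h = z⁻¹ := by group
    rw [this]
    exact Subgroup.inv_mem _ hz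
  exact ⟨MulEquiv.ofBijective φ ⟨hinj, hsurj⟩⟩

/-- scalar matrices as units -/
def scU (c : Fˣ) : GL ι F := Units.map (Matrix.scalar ι : F →+* Matrix ι ι F).toMonoidHom c

theorem scU_mem (c : Fˣ) : (scU c : GL ι F) ∈ Cfsg.Geo.scalars ι F := ⟨c, rfl⟩

theorem scU_mulVec (c : Fˣ) (v : ι → F) : (scU c : GL ι F).val *ᵥ v = (c : F) • v := by
  show (Matrix.scalar ι (c : F)) *ᵥ v = (c : F) • v
  rw [Matrix.scalar_apply, ← Matrix.smul_one_eq_diagonal, Matrix.smul_mulVec, Matrix.one_mulVec]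

theorem scalars_mulVec (g : GL ι F) (hg : g ∈ Cfsg.Geo.scalars ι F) :
    ∃ c : Fˣ, ∀ v : ι → F, g.val *ᵥ v = (c : F) • v := by
  obtain ⟨c, hc⟩ := (Cfsg.Geo.mem_scalars_iff g).1 hg
  refine ⟨c, fun v => ?_⟩
  rw [hc, Matrix.smul_mulVec, Matrix.one_mulVec]

theorem eq_one_of_mulVec (g : GL ι F) (h : ∀ v : ι → F, g.val *ᵥ v = v) : g = 1 := by
  apply Units.ext
  apply Matrix.mulVec_injective
  funext v
  rw [h, Units.val_one, Matrix.one_mulVec]

end compl

section two

variable {F : Type u} [Field F] [Fintype F] [CharP F 2]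

theorem sq_eq_one_two (c : F) (h : c ^ 2 = 1) : c = 1 := by
  have h2 : (c - 1) ^ 2 = 0 := by
    have e : (2 : F) = 0 := CharTwo.two_eq_zero
    linear_combination h - c * e + e
  exact sub_eq_zero.1 (pow_eq_zero_iff two_ne_zero |>.1 h2)

theorem sqrt_ne_zero (c : F) (hc : c ≠ 0) : sqrt c ≠ 0 := by
  intro h
  apply hc
  rw [← sqrt_sq c, h]
  ring

theorem quadFormOdd_smul (m : ℕ) (c : F) (v : IO m → F) :
    Cfsg.quadFormOdd m F (c • v) = c ^ 2 * Cfsg.quadFormOdd m F v := by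
  unfold Cfsg.quadFormOdd
  rw [mul_add, Finset.mul_sum]
  congr 1
  · simp only [Pi.smul_apply, smul_eq_mul]
    ring
  · apply Finset.sum_congr rfl
    intro i _
    simp only [Pi.smul_apply, smul_eq_mul]
    ring

/-- in characteristic two, `PGO` of the odd-dimensional form is its isometry group -/
theorem pgo_odd_equiv (m : ℕ) :
    Nonempty (↥(Cfsg.isometryGroup F (Cfsg.quadFormOdd m F)) ≃*
      Cfsg.PGO F (Cfsg.quadFormOdd m F)) := by
  apply projQuot_of_compl
  · intro g hg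
    exact ⟨1, fun v => by rw [Units.val_one, one_mul]; exact hg v v⟩
  · intro g hg hsc
    obtain ⟨c, hc⟩ := scalars_mulVec g hsc
    have h1 := hg (Pi.single (Sum.inl ()) 1) (Pi.single (Sum.inl ()) 1)
    simp only [Units.coeHom_apply] at h1
    rw [hc, quadFormOdd_smul, quadFormOdd_single_inl, mul_one] at h1
    have hc1 := sq_eq_one_two _ h1
    apply eq_one_of_mulVec
    intro v
    rw [hc, hc1, one_smul]
  · rintro h ⟨c, hc⟩
    have hs := sqrt_ne_zero (c : F) c.ne_zero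
    refine ⟨scU (Units.mk0 (sqrt (c : F)) hs)⁻¹, scU_mem _, ?_⟩
    intro v _
    simp only [Units.coeHom_apply]
    rw [Units.val_mul, ← Matrix.mulVec_mulVec, scU_mulVec, hc, quadFormOdd_smul, ← mul_assoc,
      Units.val_inv_eq_inv_val, Units.val_mk0, inv_pow, sqrt_sq, mul_inv_cancel₀ c.ne_zero,
      one_mul]

/-- the standard symmetric bilinear form `x₀ y₀ + ω(x, y)` -/
def b0 (m : ℕ) (u v : IO m → F) : F := u ⬝ᵥ (M0 m *ᵥ v)

theorem b0_smul (m : ℕ) (c : F) (u v : IO m → F) : b0 m (c • u) (c • v) = c ^ 2 * b0 m u v := by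
  unfold b0
  rw [Matrix.mulVec_smul, smul_dotProduct, dotProduct_smul, smul_eq_mul, smul_eq_mul]
  ring

theorem b0_e0 (m : ℕ) : b0 (F := F) m (Pi.single (Sum.inl ()) 1) (Pi.single (Sum.inl ()) 1) = 1 := by
  unfold b0
  rw [Matrix.mulVec_single_one, single_dotProduct, one_mul]
  simp [M0]

/-- the similarity group of `b0` modulo scalars is its isometry group -/
theorem pgb_equiv (m : ℕ) :
    Nonempty (↥(Cfsg.preserving (Units.coeHom (Matrix (IO m) (IO m) F)) (b0 m)) ≃*
      Cfsg.projQuot (Cfsg.Geo.similarityGroup (b0 (F := F) m))) := by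
  apply projQuot_of_compl
  · intro g hg
    exact ⟨1, fun u v => by rw [Units.val_one, one_mul]; exact hg u v⟩
  · intro g hg hsc
    obtain ⟨c, hc⟩ := scalars_mulVec g hsc
    have h1 := hg (Pi.single (Sum.inl ()) 1) (Pi.single (Sum.inl ()) 1)
    simp only [Units.coeHom_apply] at h1
    rw [hc, b0_smul, b0_e0, mul_one] at h1
    have hc1 := sq_eq_one_two _ h1
    apply eq_one_of_mulVec
    intro v
    rw [hc, hc1, one_smul]
  · rintro h ⟨c, hc⟩
    have hs := sqrt_ne_zero (c : F) c.ne_zero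
    refine ⟨scU (Units.mk0 (sqrt (c : F)) hs)⁻¹, scU_mem _, ?_⟩
    intro u v
    simp only [Units.coeHom_apply]
    rw [Units.val_mul, ← Matrix.mulVec_mulVec, ← Matrix.mulVec_mulVec, scU_mulVec, scU_mulVec, hc,
      b0_smul, ← mul_assoc,
      Units.val_inv_eq_inv_val, Units.val_mk0, inv_pow, sqrt_sq, mul_inv_cancel₀ c.ne_zero,
      one_mul]

/-- membership in the isometry group of `b0`, as a matrix identity -/
theorem mem_ob_iff (m : ℕ) (g : GL (IO m) F) :
    g ∈ Cfsg.preserving (Units.coeHom (Matrix (IO m) (IO m) F)) (b0 m) ↔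
      g.valᵀ * M0 m * g.val = M0 m := by
  constructor
  · intro hg
    apply eq_of_bil
    intro u v
    rw [bil_conj]
    exact hg u v
  · intro hg u v
    show b0 m (g.val *ᵥ u) (g.val *ᵥ v) = b0 m u v
    unfold b0
    rw [← bil_conj, hg]

/-- the block structure of an isometry of `b0` -/
theorem blocks_of_iso (m : ℕ) (g : Matrix (IO m) (IO m) F) (hg : gᵀ * M0 m * g = M0 m) :
    ∃ s ∈ Matrix.symplecticGroup (Fin m) F, g = Matrix.fromBlocks 1 0 0 s := by
  obtain ⟨a, ha⟩ : ∃ a, a = g.toBlocks₁₁ := ⟨_, rfl⟩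
  obtain ⟨l, hl⟩ : ∃ l, l = g.toBlocks₁₂ := ⟨_, rfl⟩
  obtain ⟨c, hc⟩ : ∃ c, c = g.toBlocks₂₁ := ⟨_, rfl⟩
  obtain ⟨s, hs⟩ : ∃ s, s = g.toBlocks₂₂ := ⟨_, rfl⟩
  have hg' : g = Matrix.fromBlocks a l c s := by
    rw [ha, hl, hc, hs, Matrix.fromBlocks_toBlocks]
  rw [hg'] at hg
  unfold M0 at hg
  rw [Matrix.fromBlocks_transpose, Matrix.fromBlocks_multiply, Matrix.fromBlocks_multiply,
    Matrix.fromBlocks_inj] at hg
  simp only [Matrix.mul_one, Matrix.mul_zero, Matrix.zero_mul, add_zero, zero_add] at hg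
  obtain ⟨h11, h12, h21, h22⟩ := hg
  -- the first row
  have hl0 : l = 0 := by
    ext u k
    have h1 := congrFun (congrFun h22 k) k
    rw [Matrix.add_apply, congr_apply, alt_dotProduct _ (J_skew m) (J_diag m), add_zero, J_diag,
      Matrix.mul_apply, Fintype.sum_unique, Matrix.transpose_apply] at h1
    rcases mul_self_eq_zero.1 h1 with h
    rw [Matrix.zero_apply]
    exact h
  rw [hl0, Matrix.transpose_zero, Matrix.zero_mul, zero_add] at h22
  rw [hl0, Matrix.transpose_zero, Matrix.zero_mul, zero_add] at h21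
  have hsp : s ∈ Matrix.symplecticGroup (Fin m) F := SymplecticGroup.mem_iff'.2 h22
  -- the first column
  have hdet : (sᵀ * Matrix.J (Fin m) F).det ≠ 0 := by
    intro h0
    have := congrArg Matrix.det h22
    rw [Matrix.det_mul, h0, zero_mul] at this
    exact (Matrix.isUnit_det_J (Fin m) F).ne_zero this.symm
  have hc0 : c = 0 := by
    have h1 : (sᵀ * Matrix.J (Fin m) F)⁻¹ * (sᵀ * Matrix.J (Fin m) F * c) = c := by
      rw [← Matrix.mul_assoc, Matrix.nonsing_inv_mul _ (isUnit_iff_ne_zero.2 hdet), Matrix.one_mul]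
    rw [← h1, h21, Matrix.mul_zero]
  rw [hc0, Matrix.mul_zero, add_zero] at h11
  have ha1 : a = 1 := by
    ext u v
    have h1 := congrFun (congrFun h11 u) u
    rw [Matrix.mul_apply, Fintype.sum_unique, Matrix.transpose_apply, Matrix.one_apply_eq,
      ← sq] at h1
    have := sq_eq_one_two _ h1
    rw [Subsingleton.elim v u, Matrix.one_apply_eq, Subsingleton.elim u default]
    exact this
  exact ⟨s, hsp, by rw [hg', hl0, hc0, ha1]⟩

/-- `s ↦ diag(1, s)` -/
def spEmb (m : ℕ) : ↥(Matrix.symplecticGroup (Fin m) F) →* Matrix (IO m) (IO m) F where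
  toFun s := Matrix.fromBlocks 1 0 0 s.1
  map_one' := by
    show Matrix.fromBlocks 1 0 0 (1 : Matrix (Fin m ⊕ Fin m) (Fin m ⊕ Fin m) F) = 1
    exact Matrix.fromBlocks_one
  map_mul' s t := by
    show Matrix.fromBlocks 1 0 0 (s.1 * t.1) = Matrix.fromBlocks 1 0 0 s.1 * Matrix.fromBlocks 1 0 0 t.1
    rw [Matrix.fromBlocks_multiply]
    simp

/-- the isometry group of `b0` is the symplectic group -/
theorem ob_equiv_sp (m : ℕ) :
    Nonempty (↥(Matrix.symplecticGroup (Fin m) F) ≃*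
      ↥(Cfsg.preserving (Units.coeHom (Matrix (IO m) (IO m) F)) (b0 m))) := by
  have hmem : ∀ s : ↥(Matrix.symplecticGroup (Fin m) F), (spEmb m).toHomUnits s ∈
      Cfsg.preserving (Units.coeHom (Matrix (IO m) (IO m) F)) (b0 m) := by
    intro s
    rw [mem_ob_iff]
    show (Matrix.fromBlocks 1 0 0 s.1)ᵀ * M0 m * Matrix.fromBlocks 1 0 0 s.1 = M0 m
    unfold M0
    rw [Matrix.fromBlocks_transpose, Matrix.fromBlocks_multiply, Matrix.fromBlocks_multiply]
    simp only [Matrix.mul_one, Matrix.mul_zero, Matrix.zero_mul, add_zero, zero_add,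
      Matrix.transpose_one, Matrix.transpose_zero, Matrix.one_mul]
    rw [SymplecticGroup.mem_iff'.1 s.2]
  refine ⟨MulEquiv.ofBijective ((spEmb m).toHomUnits.codRestrict _ hmem) ⟨?_, ?_⟩⟩
  · intro s t h
    have h1 : Matrix.fromBlocks (1 : Matrix Unit Unit F) 0 0 s.1 = Matrix.fromBlocks 1 0 0 t.1 :=
      congrArg (fun x : ↥(Cfsg.preserving (Units.coeHom (Matrix (IO m) (IO m) F)) (b0 m)) =>
        x.1.val) h
    exact Subtype.ext (Matrix.fromBlocks_inj.1 h1).2.2.2
  · rintro ⟨g, hg⟩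
    obtain ⟨s, hs, hgs⟩ := blocks_of_iso m g.val ((mem_ob_iff m g).1 hg)
    refine ⟨⟨s, hs⟩, ?_⟩
    apply Subtype.ext
    apply Units.ext
    exact hgs.symm

theorem M0_sq (m : ℕ) : M0 (F := F) m * M0 m = 1 := by
  unfold M0
  rw [Matrix.fromBlocks_multiply]
  simp only [Matrix.mul_one, Matrix.mul_zero, Matrix.zero_mul, add_zero, zero_add]
  rw [Matrix.J_squared]
  have h1 : (-1 : Matrix (Fin m ⊕ Fin m) (Fin m ⊕ Fin m) F) = 1 := by
    ext i j
    rw [Matrix.neg_apply, CharTwo.neg_eq]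
  rw [h1, Matrix.fromBlocks_one]

/-- `diag(1, J)` as an invertible matrix (an involution in characteristic two) -/
def M0u (m : ℕ) : GL (IO m) F := ⟨M0 m, M0 m, M0_sq m, M0_sq m⟩

theorem M0u_val (m : ℕ) : (M0u (F := F) m).val = M0 m := rfl

theorem M0u_inv_val (m : ℕ) : (M0u (F := F) m)⁻¹.val = M0 m := rfl

end two

section transport

variable {F : Type u} [Field F] {n : ℕ} {ι' : Type} [Fintype ι'] [DecidableEq ι']

theorem form_eR (r : Fin n ≃ ι') (M : Matrix ι' ι' F) (x y : Fin n → F) :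
    (eR r x) ⬝ᵥ (M *ᵥ (eR r y)) = x ⬝ᵥ (M.submatrix r r *ᵥ y) :=
  (dot_sub r M x y).symm

/-- the matrices centralising the graph involution of a reindexed matrix: the similarity group
of its inverse bilinear form -/
theorem mem_centGL_sub_iff (r : Fin n ≃ ι') (hn : 2 ≤ n) (P : GL ι' F) (h : GL (Fin n) F) :
    h ∈ centGL (Dh (subGL r P) * Γ : MulAut (PSLn n F)) ↔
      glCongr (eR r) h ∈
        Cfsg.Geo.similarityGroup (fun u v : ι' → F => u ⬝ᵥ (P⁻¹.val *ᵥ v)) := by
  have hAB : (subGL (F := F) r P).val * (subGL (F := F) r P)⁻¹.val = 1 := by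
    rw [← Units.val_mul, mul_inv_cancel, Units.val_one]
  have hBA : (subGL (F := F) r P)⁻¹.val * (subGL (F := F) r P).val = 1 := by
    rw [← Units.val_mul, inv_mul_cancel, Units.val_one]
  have hh1 : h⁻¹.val * h.val = 1 := by rw [← Units.val_mul, inv_mul_cancel, Units.val_one]
  have hh2 : h.val * h⁻¹.val = 1 := by rw [← Units.val_mul, mul_inv_cancel, Units.val_one]
  have hform : ∀ u v : ι' → F,
      ((glCongr (eR r) h).val *ᵥ u) ⬝ᵥ (P⁻¹.val *ᵥ ((glCongr (eR r) h).val *ᵥ v))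
        = ((eR (F := F) r).symm u) ⬝ᵥ
          ((h.valᵀ * (subGL (F := F) r P)⁻¹.val * h.val) *ᵥ ((eR (F := F) r).symm v)) := by
    intro u v
    rw [glCongr_mulVec, glCongr_mulVec, form_eR, bil_conj, subGL_inv_val]
  have hback : ∀ u v : ι' → F,
      ((eR (F := F) r).symm u) ⬝ᵥ ((subGL (F := F) r P)⁻¹.val *ᵥ ((eR (F := F) r).symm v))
        = u ⬝ᵥ (P⁻¹.val *ᵥ v) := by
    intro u v
    rw [subGL_inv_val, ← form_eR, LinearEquiv.apply_symm_apply, LinearEquiv.apply_symm_apply]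
  rw [mem_centGL_graph hn]
  constructor
  · rintro ⟨d, hd⟩
    have h1 := congr_inv_form h.val h⁻¹.val _ _ hAB hBA hh1 d hd
    refine ⟨d, fun u v => ?_⟩
    show ((glCongr (eR r) h).val *ᵥ u) ⬝ᵥ (P⁻¹.val *ᵥ ((glCongr (eR r) h).val *ᵥ v)) = _
    rw [hform, h1, Matrix.smul_mulVec, dotProduct_smul, smul_eq_mul, hback]
  · rintro ⟨d, hd⟩
    have h1 : h.valᵀ * (subGL (F := F) r P)⁻¹.val * h.val
        = (d : F) • (subGL (F := F) r P)⁻¹.val := by
      apply eq_of_bil
      intro u v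
      have := hd (eR r u) (eR r v)
      simp only [] at this
      rw [hform, LinearEquiv.symm_apply_apply, LinearEquiv.symm_apply_apply] at this
      rw [this, Matrix.smul_mulVec, dotProduct_smul, smul_eq_mul, subGL_inv_val, ← form_eR]
    refine ⟨d, ?_⟩
    have h3 : h⁻¹.valᵀ * h.valᵀ = 1 := by
      rw [← Matrix.transpose_mul, hh2, Matrix.transpose_one]
    have h4 := congr_inv_form h.valᵀ h⁻¹.valᵀ _ _ hBA hAB h3 d
      (by rw [Matrix.transpose_transpose]; exact h1)
    rw [Matrix.transpose_transpose] at h4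
    exact h4

end transport

section final

variable {F : Type u} [Field F] [Fintype F] [CharP F 2] {n m : ℕ}

/-- **the centraliser of the standard graph involution in odd dimension, characteristic two** -/
theorem cent_std_two (hn : 2 ≤ n) (r : Fin n ≃ IO m) :
    Nonempty (↥(Cfsg.inndiagPSL n F ⊓
      Subgroup.centralizer {(Dh (subGL r (M0u m)) * Γ : MulAut (PSLn n F))}) ≃*
        Cfsg.PGO F (Cfsg.quadFormOdd m F)) := by
  rw [inndiag_eq_Dsub]
  obtain ⟨e1⟩ := cent_equiv_projQuot hn (Dh (subGL r (M0u m)) * Γ : MulAut (PSLn n F)) _ rfl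
  obtain ⟨e2⟩ := projQuot_congr (centGL (Dh (subGL r (M0u m)) * Γ : MulAut (PSLn n F)))
    (Cfsg.Geo.similarityGroup (b0 (F := F) m))
    (glCongr (eR r)) (mem_centGL_sub_iff r hn (M0u m)) (glCongr_scalars (eR r))
  obtain ⟨e3⟩ := pgb_equiv (F := F) m
  obtain ⟨e4⟩ := ob_equiv_sp (F := F) m
  obtain ⟨e5⟩ := Cfsg.Agent.S0304.result (F := F) m
  obtain ⟨e6⟩ := pgo_odd_equiv (F := F) m
  exact ⟨((((e1.trans e2).trans e3.symm).trans e4.symm).trans e5.symm).trans e6⟩

/-- every symmetric graph involution in odd dimension, characteristic two, is conjugate to the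
standard one -/
theorem conj_std_two (hn : 2 ≤ n) (hnm : n = 2 * m + 1) (r : Fin n ≃ IO m) (A : GL (Fin n) F)
    (hA : A.valᵀ = A.val) :
    Cfsg.IsConjUnder (Cfsg.inndiagPSL n F) (Dh A * Γ : MulAut (PSLn n F))
      (Dh (subGL r (M0u m)) * Γ) := by
  rw [graph_conj_iff hn]
  obtain ⟨g, hg⟩ := exists_std hnm r A hA
  exact ⟨g, 1, by rw [Units.val_one, one_smul, hg]; rfl⟩

end final

end Cfsg.Agent.Lib.Helper8.GrInv
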