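import Cfsg.Agent.H9.SympEmbed
import Cfsg.Agent.Lib.Helper5.SympCount
import Mathlib

/-!
# Symplectic bases through a given vector (helper8)
-/

set_option autoImplicit false

namespace Cfsg.Agent.Lib.Helper8.GrInv

open Module Cfsg.Agent.Lib.Helper5.SympCount

universe u v

variable {F : Type v} [Field F] {V : Type u} [AddCommGroup V] [Module F V] [FiniteDimensional F V]

/-- a symplectic family of full length is a basis with Gram matrix `J` -/
theorem basis_of_isSB (B : LinearMap.BilinForm F V) (hA : B.IsAlt) (m : ℕ)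
    (hdim : finrank F V = 2 * m) (p : (Fin m → V) × (Fin m → V)) (hp : IsSB B m p) :
    ∃ b : Basis (Fin m ⊕ Fin m) F V, (∀ i j, B (b i) (b j) = Matrix.J (Fin m) F i j) ∧
      (∀ i, b (Sum.inl i) = p.2 i) ∧ (∀ i, b (Sum.inr i) = p.1 i) := by
  obtain ⟨e, f⟩ := p
  obtain ⟨h1, h2, h3⟩ := hp
  simp only at h1 h2 h3
  let w : Fin m ⊕ Fin m → V := Sum.elim f e
  have hgram : ∀ i j, B (w i) (w j) = Matrix.J (Fin m) F i j := by
    intro i j
    rcases i with i | i <;> rcases j with j | j
    · simp [w, h3, Matrix.J]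
    · simp only [w, Sum.elim_inl, Sum.elim_inr, Matrix.J, Matrix.fromBlocks_apply₁₂, Matrix.neg_apply,
        Matrix.one_apply]
      rw [← hA.neg_eq, h1]
      by_cases hij : i = j
      · subst hij; simp
      · rw [if_neg hij, if_neg (Ne.symm hij)]
    · simp only [w, Sum.elim_inl, Sum.elim_inr, Matrix.J, Matrix.fromBlocks_apply₂₁, Matrix.one_apply]
      rw [h1]
    · simp [w, h2, Matrix.J]
  have hli : LinearIndependent F w := by
    rw [Fintype.linearIndependent_iff]
    intro c hc k
    have key : ∀ l, ∑ k, c k * Matrix.J (Fin m) F k l = 0 := by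
      intro l
      have := congrArg (fun x => B x (w l)) hc
      simp only [map_sum, map_smul, LinearMap.sum_apply, LinearMap.smul_apply, smul_eq_mul, hgram, map_zero,
        LinearMap.zero_apply] at this
      exact this
    rcases k with k | k
    · have := key (Sum.inr k)
      simp only [Fintype.sum_sum_type, Matrix.J, Matrix.fromBlocks_apply₁₂, Matrix.fromBlocks_apply₂₂,
        Matrix.neg_apply, Matrix.one_apply, Matrix.zero_apply, mul_zero, Finset.sum_const_zero, add_zero,
        mul_neg, mul_ite, mul_one, Finset.sum_neg_distrib, Finset.sum_ite_eq', Finset.mem_univ, if_true,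
        neg_eq_zero] at this
      exact this
    · have := key (Sum.inl k)
      simp only [Fintype.sum_sum_type, Matrix.J, Matrix.fromBlocks_apply₁₁, Matrix.fromBlocks_apply₂₁,
        Matrix.one_apply, Matrix.zero_apply, mul_zero, Finset.sum_const_zero, zero_add,
        mul_ite, mul_one, Finset.sum_ite_eq', Finset.mem_univ, if_true] at this
      exact this
  have hsp : ⊤ ≤ Submodule.span F (Set.range w) := by
    rw [hli.span_eq_top_of_card_eq_finrank' (by rw [Fintype.card_sum, Fintype.card_fin, hdim, two_mul])]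
  refine ⟨Basis.mk hli hsp, ?_, ?_, ?_⟩
  · intro i j
    rw [Basis.mk_apply, Basis.mk_apply, hgram]
  · intro i
    rw [Basis.mk_apply]
    rfl
  · intro i
    rw [Basis.mk_apply]
    rfl

/-- a symplectic basis through a given non-zero vector -/
theorem exists_symplectic_basis_with [Finite F] (B : LinearMap.BilinForm F V) (hB : B.Nondegenerate)
    (hA : B.IsAlt) (k : ℕ) (hdim : finrank F V = 2 * (k + 1)) (a : V) (ha : a ≠ 0) :
    ∃ b : Basis (Fin (k + 1) ⊕ Fin (k + 1)) F V,
      (∀ i j, B (b i) (b j) = Matrix.J (Fin (k + 1)) F i j) ∧ b (Sum.inr 0) = a := by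
  obtain ⟨f₀, hf₀⟩ : ∃ f₀, B a f₀ ≠ 0 := by
    by_contra hno
    apply ha
    apply hB.1
    intro y
    by_contra h
    exact hno ⟨y, h⟩
  have hef : B a ((B a f₀)⁻¹ • f₀) = 1 := by
    rw [map_smul, smul_eq_mul, inv_mul_cancel₀ hf₀]
  obtain ⟨f, hf⟩ : ∃ f, f = (B a f₀)⁻¹ • f₀ := ⟨_, rfl⟩
  rw [← hf] at hef
  have hr := finrank_perp hA hef
  have hnd := restrict_perp_nondegenerate hB hA hef
  have hA' : (B.restrict (perp B a f)).IsAlt := fun x => hA x
  have hdim' : finrank F (perp B a f) = 2 * k := by omega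
  have hcard := card_SB k (perp B a f) (B.restrict (perp B a f)) hnd hA' hdim'
  have hq : 2 ≤ Nat.card F := Finite.one_lt_card
  have hne : Nat.card (SB (B.restrict (perp B a f)) k) ≠ 0 := by
    rw [hcard]
    apply Finset.prod_ne_zero_iff.2
    intro i _
    have h1 : 1 < Nat.card F ^ (2 * (i + 1)) := Nat.one_lt_pow (by omega) hq
    have h2 : 0 < Nat.card F ^ (2 * i + 1) := pow_pos (by omega) _
    have h3 : 0 < Nat.card F ^ (2 * (i + 1)) - 1 := by omega
    exact (Nat.mul_pos h3 h2).ne'
  obtain ⟨y⟩ : Nonempty (SB (B.restrict (perp B a f)) k) := by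
    by_contra hcon
    rw [not_nonempty_iff] at hcon
    exact hne Nat.card_of_isEmpty
  obtain ⟨b, hb1, -, hb3⟩ := basis_of_isSB B hA (k + 1) hdim _ (isSB_cons hA k hef y)
  refine ⟨b, hb1, ?_⟩
  rw [hb3]
  rfl

end Cfsg.Agent.Lib.Helper8.GrInv
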