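import Cfsg.Agent.Lib.Helper8.GrInv.CharTwoCent
import Cfsg.Agent.Lib.Helper8.GrInv.SympBasis
import Mathlib

/-!
# Symmetric matrices of even size over a finite field of characteristic two (helper8)

An invertible symmetric non-alternating matrix of size `2m` over a finite field of
characteristic two is congruent to `J + E₀₀`.
-/

set_option autoImplicit false
set_option linter.unusedSectionVars false

namespace Cfsg.Agent.Lib.Helper8.GrInv

open Matrix Cfsg Cfsg.Agent.Lib.H7AutPSp Cfsg.Agent.Lib.H7AutPO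
open Cfsg.Agent.S0304 (sqrt sqrt_sq sqrt_unique sqrt_add sqrt_sq_mul)

universe u

variable {F : Type u} [Field F] [Fintype F] [CharP F 2] {n : ℕ}

/-- the alternating part `A + s sᵀ` of a symmetric matrix -/
noncomputable def altPart (A : Matrix (Fin n) (Fin n) F) : Matrix (Fin n) (Fin n) F :=
  A + Matrix.of fun i j => dvec A i * dvec A j

theorem altPart_mulVec (A : Matrix (Fin n) (Fin n) F) (v : Fin n → F) :
    altPart A *ᵥ v = A *ᵥ v + (dvec A ⬝ᵥ v) • dvec A := by
  unfold altPart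
  rw [Matrix.add_mulVec, outer_mulVec]

theorem altPart_alt (A : Matrix (Fin n) (Fin n) F) (hA : Aᵀ = A) (v : Fin n → F) :
    v ⬝ᵥ (altPart A *ᵥ v) = 0 := by
  rw [altPart_mulVec, dotProduct_add, quad_eq_sq A hA, dotProduct_smul, smul_eq_mul,
    dotProduct_comm v (dvec A), ← sq, CharTwo.add_self_eq_zero]

theorem altPart_transpose (A : Matrix (Fin n) (Fin n) F) (hA : Aᵀ = A) :
    (altPart A)ᵀ = altPart A := by
  unfold altPart
  rw [Matrix.transpose_add, hA]
  congr 1
  ext i j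
  show dvec A j * dvec A i = dvec A i * dvec A j
  ring

theorem altPart_diag (A : Matrix (Fin n) (Fin n) F) (i : Fin n) : altPart A i i = 0 := by
  unfold altPart
  rw [Matrix.add_apply, Matrix.of_apply]
  unfold dvec
  rw [← sq, sqrt_sq, CharTwo.add_self_eq_zero]

/-- vectors killed by the alternating part -/
theorem altPart_ker (A : GL (Fin n) F) (v : Fin n → F) (hv : altPart A.val *ᵥ v = 0) :
    v = (dvec A.val ⬝ᵥ v) • (A⁻¹.val *ᵥ dvec A.val) := by
  rw [altPart_mulVec] at hv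
  have hneg : -((dvec A.val ⬝ᵥ v) • dvec A.val) = (dvec A.val ⬝ᵥ v) • dvec A.val := by
    funext i
    rw [Pi.neg_apply, CharTwo.neg_eq]
  replace hv := eq_neg_of_add_eq_zero_left hv
  rw [hneg] at hv
  have := congrArg (fun w => A⁻¹.val *ᵥ w) hv
  simp only [Matrix.mulVec_mulVec, Matrix.mulVec_smul] at this
  rw [← Units.val_mul, inv_mul_cancel, Units.val_one, Matrix.one_mulVec] at this
  exact this

/-- `ε = s · A⁻¹ s` is idempotent -/
theorem center_dot_idem (A : GL (Fin n) F) (hA : A.valᵀ = A.val) :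
    (dvec A.val ⬝ᵥ (A⁻¹.val *ᵥ dvec A.val)) ^ 2 = dvec A.val ⬝ᵥ (A⁻¹.val *ᵥ dvec A.val) := by
  have h1 := quad_eq_sq A.val hA (A⁻¹.val *ᵥ dvec A.val)
  rw [Matrix.mulVec_mulVec, ← Units.val_mul, mul_inv_cancel, Units.val_one, Matrix.one_mulVec,
    dotProduct_comm] at h1
  exact h1.symm

open Module in
/-- in even size, `s · A⁻¹ s = 0` -/
theorem center_dot_even (hn : Even n) (A : GL (Fin n) F) (hA : A.valᵀ = A.val) :
    dvec A.val ⬝ᵥ (A⁻¹.val *ᵥ dvec A.val) = 0 := by
  by_contra hne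
  obtain ⟨s, hs⟩ : ∃ s, s = dvec A.val := ⟨_, rfl⟩
  obtain ⟨a, ha⟩ : ∃ a, a = A⁻¹.val *ᵥ s := ⟨_, rfl⟩
  rw [← hs, ← ha] at hne
  have hidem := center_dot_idem A hA
  rw [← hs, ← ha] at hidem
  have hsa : s ⬝ᵥ a = 1 := by
    have h1 : (s ⬝ᵥ a) * (s ⬝ᵥ a) = (s ⬝ᵥ a) * 1 := by rw [mul_one, ← sq, hidem]
    exact mul_left_cancel₀ hne h1
  have hAa : A.val *ᵥ a = s := by
    rw [ha, Matrix.mulVec_mulVec, ← Units.val_mul, mul_inv_cancel, Units.val_one,
      Matrix.one_mulVec]
  have ha0 : a ≠ 0 := by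
    intro h0
    rw [h0, dotProduct_zero] at hsa
    exact zero_ne_one hsa
  have hNa : altPart A.val *ᵥ a = 0 := by
    rw [altPart_mulVec, hAa, ← hs, hsa, one_smul]
    funext i
    rw [Pi.add_apply, CharTwo.add_self_eq_zero, Pi.zero_apply]
  have hker : LinearMap.ker (altPart A.val).mulVecLin = Submodule.span F {a} := by
    apply le_antisymm
    · intro v hv
      rw [LinearMap.mem_ker, Matrix.mulVecLin_apply] at hv
      have := altPart_ker A v hv
      rw [← hs, ← ha] at this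
      rw [this]
      exact Submodule.smul_mem _ _ (Submodule.mem_span_singleton_self a)
    · rw [Submodule.span_singleton_le_iff_mem, LinearMap.mem_ker, Matrix.mulVecLin_apply]
      exact hNa
  have h1 := LinearMap.finrank_range_add_finrank_ker (altPart A.val).mulVecLin
  rw [hker, finrank_span_singleton ha0, Module.finrank_fintype_fun_eq_card, Fintype.card_fin] at h1
  have heven := Cfsg.Agent.Lib.Helper5.AltEven.even_rank_of_alt (altPart A.val)
    (altPart_alt A.val hA)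
  have hrank : (altPart A.val).rank = finrank F (LinearMap.range (altPart A.val).mulVecLin) := rfl
  rw [hrank] at heven
  obtain ⟨k, hk⟩ := heven
  obtain ⟨l, hl⟩ := hn
  omega

section std

variable (k : ℕ)

/-- the first coordinate vector -/
def e0 : Fin (k + 1) ⊕ Fin (k + 1) → F := Pi.single (Sum.inl 0) 1

/-- the coordinate vector paired with `e0` -/
def f0 : Fin (k + 1) ⊕ Fin (k + 1) → F := Pi.single (Sum.inr 0) 1

/-- the matrix unit `E₀₀` -/
def E00 : Matrix (Fin (k + 1)) (Fin (k + 1)) F :=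
  Matrix.of fun i j => (if i = 0 then 1 else 0) * (if j = 0 then 1 else 0)

/-- the standard non-alternating symmetric matrix `J + E₀₀` -/
def M3 : Matrix (Fin (k + 1) ⊕ Fin (k + 1)) (Fin (k + 1) ⊕ Fin (k + 1)) F :=
  Matrix.fromBlocks (E00 k) (-1) 1 0

/-- its inverse `J + E₀'₀'` -/
def M3' : Matrix (Fin (k + 1) ⊕ Fin (k + 1)) (Fin (k + 1) ⊕ Fin (k + 1)) F :=
  Matrix.fromBlocks 0 (-1) 1 (E00 k)

theorem neg_one_two {ι : Type*} [DecidableEq ι] : (-1 : Matrix ι ι F) = 1 := by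
  ext i j
  rw [Matrix.neg_apply, CharTwo.neg_eq]

theorem M3_mul : M3 (F := F) k * M3' k = 1 := by
  unfold M3 M3'
  rw [Matrix.fromBlocks_multiply]
  simp only [Matrix.mul_one, Matrix.mul_zero, Matrix.zero_mul, add_zero, zero_add, Matrix.one_mul,
    Matrix.mul_neg, Matrix.neg_mul]
  have h1 : -E00 (F := F) k + -E00 k = 0 := by
    ext i j
    rw [Matrix.add_apply, Matrix.neg_apply, CharTwo.neg_eq, CharTwo.add_self_eq_zero,
      Matrix.zero_apply]
  rw [h1, neg_one_two, Matrix.fromBlocks_one]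

theorem M3'_mul : M3' (F := F) k * M3 k = 1 := mul_eq_one_comm.1 (M3_mul k)

/-- `J + E₀₀` as an invertible matrix -/
def M3u : GL (Fin (k + 1) ⊕ Fin (k + 1)) F := ⟨M3 k, M3' k, M3_mul k, M3'_mul k⟩

theorem M3u_val : (M3u (F := F) k).val = M3 k := rfl

theorem M3u_inv_val : (M3u (F := F) k)⁻¹.val = M3' k := rfl

theorem J_inr_zero (x : Fin (k + 1) ⊕ Fin (k + 1)) :
    Matrix.J (Fin (k + 1)) F (Sum.inr 0) x = e0 k x := by
  unfold e0
  rcases x with x | x
  · simp [Matrix.J, Matrix.one_apply, Pi.single_apply, eq_comm]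
  · simp [Matrix.J]

theorem M3_apply (x y : Fin (k + 1) ⊕ Fin (k + 1)) :
    M3 (F := F) k x y = Matrix.J (Fin (k + 1)) F x y + e0 k x * e0 k y := by
  unfold M3 e0 E00
  rcases x with x | x <;> rcases y with y | y
  · simp [Matrix.J, Pi.single_apply]
  · simp [Matrix.J]
  · simp [Matrix.J]
  · simp [Matrix.J]

end std

open Module in
/-- **an invertible symmetric non-alternating matrix of even size in characteristic two is
congruent to `J + E₀₀`** -/
theorem exists_std_even {k : ℕ} (hnk : n = 2 * (k + 1)) (r : Fin n ≃ Fin (k + 1) ⊕ Fin (k + 1))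
    (A : GL (Fin n) F) (hA : A.valᵀ = A.val) (hna : ∃ i, A.val i i ≠ 0) :
    ∃ g : GL (Fin n) F, g.val * A.val * g.valᵀ = (M3 k).submatrix r r := by
  classical
  obtain ⟨s, hs⟩ : ∃ s, s = dvec A.val := ⟨_, rfl⟩
  obtain ⟨a, ha⟩ : ∃ a, a = A⁻¹.val *ᵥ s := ⟨_, rfl⟩
  have hsa : s ⬝ᵥ a = 0 := by
    rw [ha, hs]
    exact center_dot_even ⟨k + 1, by omega⟩ A hA
  have hAa : A.val *ᵥ a = s := by
    rw [ha, Matrix.mulVec_mulVec, ← Units.val_mul, mul_inv_cancel, Units.val_one,
      Matrix.one_mulVec]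
  have hs0 : s ≠ 0 := by
    obtain ⟨i, hi⟩ := hna
    intro h0
    have := congrFun h0 i
    rw [hs] at this
    exact sqrt_ne_zero _ hi this
  have ha0 : a ≠ 0 := by
    intro h0
    rw [h0, Matrix.mulVec_zero] at hAa
    exact hs0 hAa.symm
  have hsymm : ∀ u v : Fin n → F, u ⬝ᵥ (A.val *ᵥ v) = v ⬝ᵥ (A.val *ᵥ u) := by
    intro u v
    rw [Matrix.dotProduct_mulVec, ← Matrix.mulVec_transpose, hA, dotProduct_comm]
  obtain ⟨N, hN⟩ : ∃ N, N = altPart A.val := ⟨_, rfl⟩
  have hNdet : N.det ≠ 0 := by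
    intro h0
    obtain ⟨v, hv0, hv⟩ := (Matrix.exists_mulVec_eq_zero_iff (M := N)).2 h0
    rw [hN] at hv
    have h1 := altPart_ker A v hv
    rw [← hs, ← ha] at h1
    have h2 : s ⬝ᵥ v = 0 := by
      conv_lhs => rw [h1]
      rw [dotProduct_smul, hsa, smul_zero]
    rw [h2, zero_smul] at h1
    exact hv0 h1
  let ω : LinearMap.BilinForm F (Fin n → F) := Matrix.toBilin' N
  have hω : ∀ u v, ω u v = u ⬝ᵥ (N *ᵥ v) := fun u v => Matrix.toBilin'_apply' N u v
  have hωnd : ω.Nondegenerate :=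
    Matrix.nondegenerate_toBilin'_iff.2 (Matrix.nondegenerate_of_det_ne_zero hNdet)
  have hωalt : ω.IsAlt := by
    intro v
    rw [hω, hN]
    exact altPart_alt A.val hA v
  have hbω : ∀ u v : Fin n → F, u ⬝ᵥ (A.val *ᵥ v) = ω u v + (s ⬝ᵥ u) * (s ⬝ᵥ v) := by
    intro u v
    rw [hω, hN, altPart_mulVec, dotProduct_add, dotProduct_smul, smul_eq_mul, ← hs,
      dotProduct_comm u s, add_assoc, mul_comm, CharTwo.add_self_eq_zero, add_zero]
  have hωa : ∀ v, ω a v = s ⬝ᵥ v := by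
    intro v
    have h1 := hbω a v
    rw [hsa, zero_mul, add_zero, hsymm, hAa, dotProduct_comm] at h1
    exact h1.symm
  have hdim : finrank F (Fin n → F) = 2 * (k + 1) := by
    rw [Module.finrank_fintype_fun_eq_card, Fintype.card_fin, hnk]
  obtain ⟨w, hw, hwa⟩ := exists_symplectic_basis_with ω hωnd hωalt k hdim a ha0
  have hsw : ∀ x, s ⬝ᵥ w x = e0 k x := by
    intro x
    rw [← hωa, ← hwa, hw, J_inr_zero]
  obtain ⟨g, hg⟩ : ∃ g : Matrix (Fin n) (Fin n) F, g = Matrix.of fun i => w (r i) := ⟨_, rfl⟩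
  have hcong : g * A.val * gᵀ = (M3 k).submatrix r r := by
    ext i j
    rw [congr_apply', Matrix.submatrix_apply, M3_apply, hg]
    show (w (r i)) ⬝ᵥ (A.val *ᵥ (w (r j))) = _
    rw [hbω, hw, hsw, hsw]
  have hdet : g.det ≠ 0 := by
    intro h0
    have := congrArg Matrix.det hcong
    rw [Matrix.det_mul, Matrix.det_mul, h0, zero_mul, zero_mul,
      Matrix.det_submatrix_equiv_self] at this
    have h3 := congrArg Matrix.det (M3_mul (F := F) k)
    rw [Matrix.det_mul, ← this, zero_mul, Matrix.det_one] at h3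
    exact zero_ne_one h3
  exact ⟨Matrix.GeneralLinearGroup.mkOfDetNeZero g hdet, hcong⟩

end Cfsg.Agent.Lib.Helper8.GrInv
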