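import Cfsg.Agent.Lib.Helper8.GrInv.EvenTwo
import Mathlib

/-!
# Centralisers of graph involutions of `PSL_n(F)`, `n` even, characteristic two (helper8)
-/

set_option autoImplicit false
set_option linter.unusedSectionVars false

namespace Cfsg.Agent.Lib.Helper8.GrInv

open Matrix Cfsg Cfsg.Agent.AutPSLCount Cfsg.Agent.Lib.H7AutPSL Cfsg.Agent.Lib.H7GraphInv
open Cfsg.Agent.Lib.H7AutPSp Cfsg.Agent.Lib.H7AutPO
open Cfsg.Agent.S0304 (sqrt sqrt_sq sqrt_unique sqrt_add sqrt_sq_mul)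

universe u

section general

variable {F : Type u} [Field F] [Fintype F] [CharP F 2] {ι : Type} [Fintype ι] [DecidableEq ι]

/-- the bilinear form of a matrix -/
def bilM (M : Matrix ι ι F) (u v : ι → F) : F := u ⬝ᵥ (M *ᵥ v)

theorem bilM_smul (M : Matrix ι ι F) (c : F) (u v : ι → F) :
    bilM M (c • u) (c • v) = c ^ 2 * bilM M u v := by
  unfold bilM
  rw [Matrix.mulVec_smul, smul_dotProduct, dotProduct_smul, smul_eq_mul, smul_eq_mul]
  ring

/-- in characteristic two, the similarity group of a bilinear form with a value `1`, modulo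
scalars, is its isometry group -/
theorem pgm_equiv (M : Matrix ι ι F) (x y : ι → F) (hxy : bilM M x y = 1) :
    Nonempty (↥(Cfsg.preserving (Units.coeHom (Matrix ι ι F)) (bilM M)) ≃*
      Cfsg.projQuot (Cfsg.Geo.similarityGroup (bilM M))) := by
  apply projQuot_of_compl
  · intro g hg
    exact ⟨1, fun u v => by rw [Units.val_one, one_mul]; exact hg u v⟩
  · intro g hg hsc
    obtain ⟨c, hc⟩ := scalars_mulVec g hsc
    have h1 := hg x y
    simp only [Units.coeHom_apply] at h1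
    rw [hc, hc, bilM_smul, hxy, mul_one] at h1
    have hc1 := sq_eq_one_two _ h1
    apply eq_one_of_mulVec
    intro v
    rw [hc, hc1, one_smul]
  · rintro h ⟨c, hc⟩
    have hs := sqrt_ne_zero (c : F) c.ne_zero
    refine ⟨scU (Units.mk0 (sqrt (c : F)) hs)⁻¹, scU_mem _, ?_⟩
    intro u v
    simp only [Units.coeHom_apply]
    rw [Units.val_mul, ← Matrix.mulVec_mulVec, ← Matrix.mulVec_mulVec, scU_mulVec, scU_mulVec, hc,
      bilM_smul, ← mul_assoc,
      Units.val_inv_eq_inv_val, Units.val_mk0, inv_pow, sqrt_sq, mul_inv_cancel₀ c.ne_zero,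
      one_mul]

/-- membership in the isometry group of a matrix form, as a matrix identity -/
theorem mem_om_iff (M : Matrix ι ι F) (g : GL ι F) :
    g ∈ Cfsg.preserving (Units.coeHom (Matrix ι ι F)) (bilM M) ↔ g.valᵀ * M * g.val = M := by
  constructor
  · intro hg
    apply eq_of_bil
    intro u v
    rw [bil_conj]
    exact hg u v
  · intro hg u v
    show bilM M (g.val *ᵥ u) (g.val *ᵥ v) = bilM M u v
    unfold bilM
    rw [← bil_conj, hg]

end general

section bridge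

variable {F : Type u} [Field F] {m : ℕ}

/-- a subgroup of Mathlib's symplectic group and the subgroup of the general linear group with
the same elements -/
theorem sp_bridge (S : Subgroup ↥(Matrix.symplecticGroup (Fin m) F))
    (O : Subgroup (GL (Fin m ⊕ Fin m) F))
    (h : ∀ g : GL (Fin m ⊕ Fin m) F, g ∈ O ↔
      ∃ hs : g.val ∈ Matrix.symplecticGroup (Fin m) F,
        (⟨g.val, hs⟩ : ↥(Matrix.symplecticGroup (Fin m) F)) ∈ S) :
    Nonempty (↥S ≃* ↥O) := by
  let φ : ↥S →* GL (Fin m ⊕ Fin m) F :=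
    ((Matrix.symplecticGroup (Fin m) F).subtype.comp S.subtype).toHomUnits
  have hφ : ∀ s : ↥S, (φ s).val = s.1.1 := fun s => rfl
  have hmem : ∀ s : ↥S, φ s ∈ O := by
    intro s
    rw [h]
    exact ⟨s.1.2, s.2⟩
  refine ⟨MulEquiv.ofBijective (φ.codRestrict O hmem) ⟨?_, ?_⟩⟩
  · intro s t hst
    have h1 : (φ s).val = (φ t).val := congrArg (fun x : ↥O => x.1.val) hst
    rw [hφ, hφ] at h1
    exact Subtype.ext (Subtype.ext h1)
  · rintro ⟨g, hg⟩
    obtain ⟨hs, hS⟩ := (h g).1 hg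
    refine ⟨⟨⟨g.val, hs⟩, hS⟩, ?_⟩
    apply Subtype.ext
    apply Units.ext
    rfl

end bridge

section transv

variable {F : Type u} [Field F] {ι : Type} [Fintype ι] [DecidableEq ι]

/-- `1 + a rᵀ` is a transvection when `r · a = 0` -/
theorem isTransvection_add_vecMulVec {a r : ι → F} (ha : a ≠ 0) (hr : r ≠ 0) (h : r ⬝ᵥ a = 0) :
    Cfsg.IsTransvection (1 + Matrix.vecMulVec a r) := by
  have hsub : (1 + Matrix.vecMulVec a r) - 1 = Matrix.vecMulVec a r := by abel
  refine ⟨?_, ?_⟩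
  · rw [hsub]
    apply le_antisymm (Matrix.rank_vecMulVec_le a r)
    rw [Nat.one_le_iff_ne_zero]
    intro h0
    have h1 : Module.finrank F (LinearMap.range (Matrix.vecMulVec a r).mulVecLin) = 0 := h0
    rw [Submodule.finrank_eq_zero, LinearMap.range_eq_bot] at h1
    have h2 : Matrix.vecMulVec a r = 0 := by
      apply Matrix.toLin'.injective
      rw [map_zero]
      exact h1
    rw [Matrix.vecMulVec_eq_zero] at h2
    rcases h2 with h2 | h2
    · exact ha h2
    · exact hr h2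
  · rw [hsub, Matrix.vecMulVec_mul_vecMulVec, h, zero_smul]
    ext i j
    simp [Matrix.vecMulVec_apply]

theorem add_vecMulVec_mulVec (a r x : ι → F) :
    (1 + Matrix.vecMulVec a r) *ᵥ x = x + (r ⬝ᵥ x) • a := by
  rw [Matrix.add_mulVec, Matrix.one_mulVec, Matrix.vecMulVec_mulVec, op_smul_eq_smul]

end transv

section T

variable {F : Type u} [Field F] (k : ℕ)

/-- the standard symplectic transvection `v ↦ v + v_{0'} e₀` -/
def T3 : Matrix (Fin (k + 1) ⊕ Fin (k + 1)) (Fin (k + 1) ⊕ Fin (k + 1)) F :=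
  1 + Matrix.vecMulVec (e0 k) (f0 k)

theorem f0_dot (v : Fin (k + 1) ⊕ Fin (k + 1) → F) : f0 k ⬝ᵥ v = v (Sum.inr 0) := by
  unfold f0
  rw [single_dotProduct, one_mul]

theorem e0_dot (v : Fin (k + 1) ⊕ Fin (k + 1) → F) : e0 k ⬝ᵥ v = v (Sum.inl 0) := by
  unfold e0
  rw [single_dotProduct, one_mul]

theorem T3_mulVec (v : Fin (k + 1) ⊕ Fin (k + 1) → F) :
    T3 k *ᵥ v = v + v (Sum.inr 0) • e0 k := by
  unfold T3
  rw [add_vecMulVec_mulVec, f0_dot]

theorem e0_ne_zero : e0 (F := F) k ≠ 0 := by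
  intro h
  have := congrFun h (Sum.inl 0)
  simp [e0] at this

theorem f0_ne_zero : f0 (F := F) k ≠ 0 := by
  intro h
  have := congrFun h (Sum.inr 0)
  simp [f0] at this

theorem T3_isTransvection : Cfsg.IsTransvection (T3 (F := F) k) := by
  apply isTransvection_add_vecMulVec (e0_ne_zero k) (f0_ne_zero k)
  rw [f0_dot]
  simp [e0]

/-- `ω(e₀, v) = -v_{0'}` -/
theorem symp_e0_left (v : Fin (k + 1) ⊕ Fin (k + 1) → F) :
    e0 k ⬝ᵥ (Matrix.J (Fin (k + 1)) F *ᵥ v) = -v (Sum.inr 0) := by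
  rw [e0_dot]
  unfold Matrix.mulVec dotProduct
  simp [Matrix.J, Fintype.sum_sum_type, Matrix.one_apply]

/-- `ω(u, e₀) = u_{0'}` -/
theorem symp_e0_right (u : Fin (k + 1) ⊕ Fin (k + 1) → F) :
    u ⬝ᵥ (Matrix.J (Fin (k + 1)) F *ᵥ e0 k) = u (Sum.inr 0) := by
  unfold e0
  rw [Matrix.mulVec_single_one]
  unfold dotProduct
  simp [Matrix.J, Fintype.sum_sum_type, Matrix.one_apply]

theorem T3_symp : T3 (F := F) k ∈ Matrix.symplecticGroup (Fin (k + 1)) F := by
  rw [SymplecticGroup.mem_iff']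
  apply eq_of_bil
  intro u v
  rw [bil_conj, T3_mulVec, T3_mulVec, Matrix.mulVec_add, Matrix.mulVec_smul, add_dotProduct,
    dotProduct_add, dotProduct_add, smul_dotProduct, dotProduct_smul, dotProduct_smul,
    smul_dotProduct, symp_e0_left, symp_e0_right, symp_e0_left]
  simp only [smul_eq_mul, Pi.smul_apply]
  simp [e0]
  ring

/-- the symplectic form is non-degenerate -/
theorem eq_zero_of_bil_J (x : Fin (k + 1) ⊕ Fin (k + 1) → F)
    (h : ∀ w, x ⬝ᵥ (Matrix.J (Fin (k + 1)) F *ᵥ w) = 0) : x = 0 := by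
  have h2 : Matrix.vecMul x (Matrix.J (Fin (k + 1)) F) = 0 := by
    funext j
    have := h (Pi.single j 1)
    rw [Matrix.dotProduct_mulVec, dotProduct_single, mul_one] at this
    exact this
  have h3 := congrArg (fun u => Matrix.vecMul u (-Matrix.J (Fin (k + 1)) F)) h2
  simp only [Matrix.vecMul_vecMul, Matrix.zero_vecMul] at h3
  rw [Matrix.mul_neg, Matrix.J_squared, neg_neg, Matrix.vecMul_one] at h3
  exact h3

/-- the transvection as an element of the symplectic group -/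
def t3 : ↥(Matrix.symplecticGroup (Fin (k + 1)) F) := ⟨T3 k, T3_symp k⟩

end T

section O3

variable {F : Type u} [Field F] [Fintype F] [CharP F 2] (k : ℕ)

theorem sq_inj_two (a b : F) (h : a ^ 2 = b ^ 2) : a = b := by
  have h2 : (a - b) ^ 2 = 0 := by
    have e : (2 : F) = 0 := CharTwo.two_eq_zero
    linear_combination h - (a * b - b ^ 2) * e
  exact sub_eq_zero.1 (pow_eq_zero_iff two_ne_zero |>.1 h2)

theorem M3'_apply (x y : Fin (k + 1) ⊕ Fin (k + 1)) :
    M3' (F := F) k x y = Matrix.J (Fin (k + 1)) F x y + f0 k x * f0 k y := by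
  unfold M3' f0 E00
  rcases x with x | x <;> rcases y with y | y
  · simp [Matrix.J]
  · simp [Matrix.J]
  · simp [Matrix.J]
  · simp [Matrix.J, Pi.single_apply]

/-- `b₃(u, v) = ω(u, v) + u_{0'} v_{0'}` -/
theorem bilM_M3' (u v : Fin (k + 1) ⊕ Fin (k + 1) → F) :
    bilM (M3' k) u v = u ⬝ᵥ (Matrix.J (Fin (k + 1)) F *ᵥ v) + u (Sum.inr 0) * v (Sum.inr 0) := by
  have h1 : M3' (F := F) k = Matrix.J (Fin (k + 1)) F + Matrix.vecMulVec (f0 k) (f0 k) := by
    ext x y
    rw [M3'_apply, Matrix.add_apply, Matrix.vecMulVec_apply]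
  unfold bilM
  rw [h1, Matrix.add_mulVec, dotProduct_add, Matrix.vecMulVec_mulVec, op_smul_eq_smul,
    dotProduct_smul, f0_dot, dotProduct_comm u (f0 k), f0_dot, smul_eq_mul, mul_comm]

theorem bilM_M3'_self (v : Fin (k + 1) ⊕ Fin (k + 1) → F) :
    bilM (M3' k) v v = v (Sum.inr 0) ^ 2 := by
  rw [bilM_M3', alt_dotProduct _ (J_skew (k + 1)) (J_diag (k + 1)), zero_add, sq]

/-- **the isometries of `b₃` are the symplectic matrices commuting with the transvection** -/
theorem mem_o3_iff (g : GL (Fin (k + 1) ⊕ Fin (k + 1)) F) :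
    g ∈ Cfsg.preserving (Units.coeHom (Matrix (Fin (k + 1) ⊕ Fin (k + 1))
        (Fin (k + 1) ⊕ Fin (k + 1)) F)) (bilM (M3' k)) ↔
      ∃ hs : g.val ∈ Matrix.symplecticGroup (Fin (k + 1)) F,
        (⟨g.val, hs⟩ : ↥(Matrix.symplecticGroup (Fin (k + 1)) F)) ∈
          Subgroup.centralizer {t3 (F := F) k} := by
  have hginv : ∀ w, g.val *ᵥ (g⁻¹.val *ᵥ w) = w := by
    intro w
    rw [Matrix.mulVec_mulVec, ← Units.val_mul, mul_inv_cancel, Units.val_one, Matrix.one_mulVec]
  constructor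
  · intro hg
    have hg' : ∀ u v, bilM (M3' k) (g.val *ᵥ u) (g.val *ᵥ v) = bilM (M3' k) u v := hg
    have h1 : ∀ v, (g.val *ᵥ v) (Sum.inr 0) = v (Sum.inr 0) := by
      intro v
      have := hg' v v
      rw [bilM_M3'_self, bilM_M3'_self] at this
      exact sq_inj_two _ _ this
    have h2 : ∀ u v, (g.val *ᵥ u) ⬝ᵥ (Matrix.J (Fin (k + 1)) F *ᵥ (g.val *ᵥ v))
        = u ⬝ᵥ (Matrix.J (Fin (k + 1)) F *ᵥ v) := by
      intro u v
      have := hg' u v
      rw [bilM_M3', bilM_M3', h1, h1] at this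
      exact add_right_cancel this
    have hs : g.val ∈ Matrix.symplecticGroup (Fin (k + 1)) F := by
      rw [SymplecticGroup.mem_iff']
      apply eq_of_bil
      intro u v
      rw [bil_conj, h2]
    have h3 : g.val *ᵥ e0 k = e0 k := by
      have : g.val *ᵥ e0 k - e0 k = 0 := by
        apply eq_zero_of_bil_J
        intro w
        rw [← hginv w, sub_dotProduct, h2, symp_e0_left, symp_e0_left, h1, sub_self]
      exact sub_eq_zero.1 this
    refine ⟨hs, ?_⟩
    rw [Subgroup.mem_centralizer_singleton_iff]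
    apply Subtype.ext
    show g.val * T3 k = T3 k * g.val
    apply Matrix.mulVec_injective
    funext v
    rw [← Matrix.mulVec_mulVec, ← Matrix.mulVec_mulVec, T3_mulVec, T3_mulVec, Matrix.mulVec_add,
      Matrix.mulVec_smul, h3, h1]
  · rintro ⟨hs, hc⟩
    rw [Subgroup.mem_centralizer_singleton_iff] at hc
    have hc' : g.val * T3 k = T3 k * g.val := congrArg Subtype.val hc
    have h2 : ∀ u v, (g.val *ᵥ u) ⬝ᵥ (Matrix.J (Fin (k + 1)) F *ᵥ (g.val *ᵥ v))
        = u ⬝ᵥ (Matrix.J (Fin (k + 1)) F *ᵥ v) := by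
      intro u v
      rw [← bil_conj, SymplecticGroup.mem_iff'.1 hs]
    have h4 : ∀ v : Fin (k + 1) ⊕ Fin (k + 1) → F,
        v (Sum.inr 0) • (g.val *ᵥ e0 k) = (g.val *ᵥ v) (Sum.inr 0) • e0 k := by
      intro v
      have := congrArg (fun M => M *ᵥ v) hc'
      simp only [← Matrix.mulVec_mulVec] at this
      rw [T3_mulVec, T3_mulVec, Matrix.mulVec_add, Matrix.mulVec_smul] at this
      exact add_left_cancel this
    obtain ⟨l, hl⟩ : ∃ l, l = (g.val *ᵥ f0 k) (Sum.inr 0) := ⟨_, rfl⟩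
    have h5 : g.val *ᵥ e0 k = l • e0 k := by
      have := h4 (f0 k)
      rw [← hl] at this
      simpa [f0] using this
    have h6 : ∀ v : Fin (k + 1) ⊕ Fin (k + 1) → F, (g.val *ᵥ v) (Sum.inr 0) = l * v (Sum.inr 0) := by
      intro v
      have := congrFun (h4 v) (Sum.inl 0)
      rw [h5] at this
      simpa [e0, mul_comm] using this.symm
    have h7 : l ^ 2 = 1 := by
      have := h2 (e0 k) (f0 k)
      rw [h5, smul_dotProduct, symp_e0_left, symp_e0_left, h6] at this
      simpa [f0, sq] using this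
    have hl1 : l = 1 := sq_eq_one_two l h7
    intro u v
    show bilM (M3' k) (g.val *ᵥ u) (g.val *ᵥ v) = bilM (M3' k) u v
    rw [bilM_M3', bilM_M3', h2, h6, h6, hl1, one_mul, one_mul]

theorem o3_equiv :
    Nonempty (↥(Subgroup.centralizer {t3 (F := F) k}) ≃*
      ↥(Cfsg.preserving (Units.coeHom (Matrix (Fin (k + 1) ⊕ Fin (k + 1))
        (Fin (k + 1) ⊕ Fin (k + 1)) F)) (bilM (M3' k)))) :=
  sp_bridge _ _ (mem_o3_iff k)

end O3

section final

variable {F : Type u} [Field F] [Fintype F] [CharP F 2] {n : ℕ} (k : ℕ)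

/-- **the centraliser of the standard non-alternating graph involution**: the centraliser of a
transvection in the symplectic group -/
theorem cent_std3 (hn : 2 ≤ n) (r : Fin n ≃ Fin (k + 1) ⊕ Fin (k + 1)) :
    Nonempty (↥(Cfsg.inndiagPSL n F ⊓
      Subgroup.centralizer {(Dh (subGL r (M3u k)) * Γ : MulAut (PSLn n F))}) ≃*
        ↥(Subgroup.centralizer {t3 (F := F) k})) := by
  rw [inndiag_eq_Dsub]
  obtain ⟨e1⟩ := cent_equiv_projQuot hn (Dh (subGL r (M3u k)) * Γ : MulAut (PSLn n F)) _ rfl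
  obtain ⟨e2⟩ := projQuot_congr (centGL (Dh (subGL r (M3u k)) * Γ : MulAut (PSLn n F)))
    (Cfsg.Geo.similarityGroup (bilM (M3' (F := F) k)))
    (glCongr (eR r)) (mem_centGL_sub_iff r hn (M3u k)) (glCongr_scalars (eR r))
  have h1 : bilM (M3' (F := F) k) (f0 k) (f0 k) = 1 := by
    rw [bilM_M3'_self]
    simp [f0]
  obtain ⟨e3⟩ := pgm_equiv (M3' (F := F) k) (f0 k) (f0 k) h1
  obtain ⟨e4⟩ := o3_equiv (F := F) k
  exact ⟨((e1.trans e2).trans e3.symm).trans e4.symm⟩

/-- **the centraliser of the standard alternating graph involution** in characteristic two: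
the symplectic group -/
theorem cent_std1 (hn : 2 ≤ n) (r : Fin n ≃ Fin (k + 1) ⊕ Fin (k + 1)) :
    Nonempty (↥(Cfsg.inndiagPSL n F ⊓
      Subgroup.centralizer {(Dh (A1 r) * Γ : MulAut (PSLn n F))}) ≃*
        ↥(Matrix.symplecticGroup (Fin (k + 1)) F)) := by
  obtain ⟨e1⟩ := cent_A1 (F := F) r hn
  have h1 : bilM (Matrix.J (Fin (k + 1)) F) (f0 k) (e0 k) = 1 := by
    unfold bilM
    rw [symp_e0_right]
    simp [f0]
  obtain ⟨e2⟩ := pgm_equiv (Matrix.J (Fin (k + 1)) F) (f0 k) (e0 k) h1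
  obtain ⟨e3⟩ := sp_bridge (⊤ : Subgroup ↥(Matrix.symplecticGroup (Fin (k + 1)) F))
    (Cfsg.preserving (Units.coeHom (Matrix (Fin (k + 1) ⊕ Fin (k + 1))
        (Fin (k + 1) ⊕ Fin (k + 1)) F)) (bilM (Matrix.J (Fin (k + 1)) F)))
    (fun g => by
      rw [mem_om_iff, ← SymplecticGroup.mem_iff']
      exact ⟨fun h => ⟨h, Subgroup.mem_top _⟩, fun ⟨h, _⟩ => h⟩)
  have e2' : Cfsg.PGSp (k + 1) F ≃*
      ↥(Cfsg.preserving (Units.coeHom (Matrix (Fin (k + 1) ⊕ Fin (k + 1))
        (Fin (k + 1) ⊕ Fin (k + 1)) F)) (bilM (Matrix.J (Fin (k + 1)) F))) := e2.symm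
  exact ⟨((e1.trans e2').trans e3.symm).trans Subgroup.topEquiv⟩

/-- alternating graph involutions are conjugate to the standard one -/
theorem conj_alt {m : ℕ} (r : Fin n ≃ Fin m ⊕ Fin m) (hn : 2 ≤ n) (A : GL (Fin n) F)
    (hA : A.valᵀ = A.val) (hdiagA : ∀ j, A.val j j = 0) :
    Cfsg.IsConjUnder (Cfsg.inndiagPSL n F) (Dh A * Γ : MulAut (PSLn n F)) (Dh (A1 r) * Γ) := by
  rw [graph_conj_iff hn]
  set K : Matrix (Fin m ⊕ Fin m) (Fin m ⊕ Fin m) F := A.val.submatrix r.symm r.symm with hKdef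
  have hK : Kᵀ = -K := by
    have h1 : -K = K := by
      ext i j
      rw [Matrix.neg_apply, CharTwo.neg_eq]
    rw [h1, hKdef, Matrix.transpose_submatrix, hA]
  have hdiag : ∀ i, K i i = 0 := fun i => hdiagA (r.symm i)
  have hdet : K.det ≠ 0 := by
    rw [hKdef, Matrix.det_submatrix_equiv_self]
    have : IsUnit A.val.det := (Matrix.isUnit_iff_isUnit_det A.val).1 ⟨A, rfl⟩
    exact this.ne_zero
  obtain ⟨Q, hQu, hQ⟩ := alt_congr_J m K hK hdiag hdet
  have hQT : IsUnit Qᵀ := by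
    rw [Matrix.isUnit_iff_isUnit_det, Matrix.det_transpose]
    exact (Matrix.isUnit_iff_isUnit_det Q).1 hQu
  have hAK : A.val = K.submatrix r r := by
    rw [hKdef, Matrix.submatrix_submatrix]
    ext i j
    simp
  refine ⟨subGL r hQT.unit, 1, ?_⟩
  rw [Units.val_one, one_smul, subGL_val, Matrix.transpose_submatrix, hAK]
  show (Qᵀ.submatrix r r) * K.submatrix r r * (Qᵀᵀ).submatrix r r = _
  rw [Matrix.transpose_transpose, Matrix.submatrix_mul_equiv, Matrix.submatrix_mul_equiv, hQ]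
  rfl

/-- non-alternating graph involutions in even dimension are conjugate to the standard one -/
theorem conj_std_even (hn : 2 ≤ n) (hnk : n = 2 * (k + 1)) (r : Fin n ≃ Fin (k + 1) ⊕ Fin (k + 1))
    (A : GL (Fin n) F) (hA : A.valᵀ = A.val) (hna : ∃ i, A.val i i ≠ 0) :
    Cfsg.IsConjUnder (Cfsg.inndiagPSL n F) (Dh A * Γ : MulAut (PSLn n F))
      (Dh (subGL r (M3u k)) * Γ) := by
  rw [graph_conj_iff hn]
  obtain ⟨g, hg⟩ := exists_std_even hnk r A hA hna
  exact ⟨g, 1, by rw [Units.val_one, one_smul, hg]; rfl⟩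

/-- an alternating graph involution is not conjugate to a non-alternating one -/
theorem not_conj_alt (hn : 2 ≤ n) (A B : GL (Fin n) F) (hA : A.valᵀ = A.val)
    (hdiagA : ∀ j, A.val j j = 0) (hB : ∃ i, B.val i i ≠ 0) :
    ¬ Cfsg.IsConjUnder (Cfsg.inndiagPSL n F) (Dh A * Γ : MulAut (PSLn n F)) (Dh B * Γ) := by
  rw [graph_conj_iff hn]
  rintro ⟨g, d, hd⟩
  obtain ⟨i, hi⟩ := hB
  have h1 := congrFun (congrFun hd i) i
  have hAt : A.valᵀ = -A.val := by
    have h1 : -A.val = A.val := by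
      ext i j
      rw [Matrix.neg_apply, CharTwo.neg_eq]
    rw [h1, hA]
  rw [congr_apply', alt_dotProduct _ hAt hdiagA, Matrix.smul_apply, smul_eq_mul] at h1
  rcases mul_eq_zero.1 h1.symm with h | h
  · exact d.ne_zero h
  · exact hi h

end final

end Cfsg.Agent.Lib.Helper8.GrInv
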