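import Cfsg.Agent.Lib.Helper8.GrInv.EvenTwoCent
import Cfsg.Agent.Lib.Helper7.AutPSL.FieldCount
import Mathlib

/-!
# Class splitting of graph involutions of `PSL_n(F)`: determinants of centralising matrices
(helper8)
-/

set_option autoImplicit false
set_option linter.unusedSectionVars false

namespace Cfsg.Agent.Lib.Helper8.GrInv

open Matrix Cfsg Cfsg.Agent.AutPSLCount Cfsg.Agent.Lib.H7AutPSL Cfsg.Agent.Lib.H7GraphInv
open Cfsg.Agent.Lib.H7AutPSp

universe u

variable {F : Type u} [Field F] {n : ℕ}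

/-- the determinants of the centralising matrices do not change under inner-diagonal
conjugation -/
theorem det_centGL_conj (g : GL (Fin n) F) (X : MulAut (PSLn n F)) :
    (centGL (Dh g * X * (Dh g)⁻¹)).map (Matrix.GeneralLinearGroup.det : GL (Fin n) F →* Fˣ) =
      (centGL X).map (Matrix.GeneralLinearGroup.det : GL (Fin n) F →* Fˣ) := by
  apply le_antisymm
  · rintro _ ⟨h, hh, rfl⟩
    refine ⟨g⁻¹ * h * g, ?_, ?_⟩
    · rw [SetLike.mem_coe, mem_centGL] at hh ⊢
      rw [map_mul, map_mul, map_inv]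
      calc (Dh g)⁻¹ * Dh h * Dh g * X
          = (Dh g)⁻¹ * (Dh h * (Dh g * X * (Dh g)⁻¹)) * Dh g := by group
        _ = (Dh g)⁻¹ * ((Dh g * X * (Dh g)⁻¹) * Dh h) * Dh g := by rw [hh]
        _ = X * ((Dh g)⁻¹ * Dh h * Dh g) := by group
    · rw [map_mul, map_mul, map_inv, mul_comm, ← mul_assoc, mul_inv_cancel, one_mul]
  · rintro _ ⟨h, hh, rfl⟩
    refine ⟨g * h * g⁻¹, ?_, ?_⟩
    · rw [SetLike.mem_coe, mem_centGL] at hh ⊢
      rw [map_mul, map_mul, map_inv]
      calc Dh g * Dh h * (Dh g)⁻¹ * (Dh g * X * (Dh g)⁻¹)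
          = Dh g * (Dh h * X) * (Dh g)⁻¹ := by group
        _ = Dh g * (X * Dh h) * (Dh g)⁻¹ := by rw [hh]
        _ = Dh g * X * (Dh g)⁻¹ * (Dh g * Dh h * (Dh g)⁻¹) := by group
    · rw [map_mul, map_mul, map_inv, mul_comm, ← mul_assoc, inv_mul_cancel, one_mul]

/-- the class-splitting count is constant on inner-diagonal classes -/
theorem splitCount_conj (hn : 2 ≤ n) {x y : MulAut (PSLn n F)}
    (h : Cfsg.IsConjUnder (Cfsg.inndiagPSL n F) x y) :
    Cfsg.splitClassCount (Cfsg.inndiagPSL n F) (Cfsg.Inn (PSLn n F)) x =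
      Cfsg.splitClassCount (Cfsg.inndiagPSL n F) (Cfsg.Inn (PSLn n F)) y := by
  rw [inndiag_eq_Dsub] at h ⊢
  obtain ⟨k, ⟨g, rfl⟩, rfl⟩ := h
  rw [splitClassCount_psl hn, splitClassCount_psl hn, det_centGL_conj]

/-- the count as an index -/
theorem splitCount_eq (hn : 2 ≤ n) (X : MulAut (PSLn n F)) :
    Cfsg.splitClassCount (Cfsg.inndiagPSL n F) (Cfsg.Inn (PSLn n F)) X =
      ((centGL X).map (Matrix.GeneralLinearGroup.det : GL (Fin n) F →* Fˣ)).index := by
  rw [inndiag_eq_Dsub, splitClassCount_psl hn]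

/-- the determinant and the multiplier of a centralising matrix -/
theorem det_sq_of_mem (hn : 2 ≤ n) (A h : GL (Fin n) F)
    (hh : h ∈ centGL (Dh A * Γ : MulAut (PSLn n F))) :
    ∃ d : Fˣ, h.val * A.val * h.valᵀ = (d : F) • A.val ∧
      (Matrix.GeneralLinearGroup.det h) ^ 2 = d ^ n := by
  obtain ⟨d, hd⟩ := (mem_centGL_graph hn A h).1 hh
  refine ⟨d, hd, ?_⟩
  have h1 := congrArg Matrix.det hd
  rw [Matrix.det_mul, Matrix.det_mul, Matrix.det_transpose, Matrix.det_smul, Fintype.card_fin]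
    at h1
  have hA : A.val.det ≠ 0 := ((Matrix.isUnit_iff_isUnit_det A.val).1 A.isUnit).ne_zero
  apply Units.ext
  rw [Units.val_pow_eq_pow_val, Units.val_pow_eq_pow_val, Matrix.GeneralLinearGroup.val_det_apply]
  have h2 : h.val.det ^ 2 * A.val.det = (d : F) ^ n * A.val.det := by
    rw [← h1]
    ring
  exact mul_right_cancel₀ hA h2

/-- scalar matrices centralise every graph automorphism -/
theorem scalar_mem_centGL (hn : 2 ≤ n) (A : GL (Fin n) F) (c : Fˣ) :
    (scU c : GL (Fin n) F) ∈ centGL (Dh A * Γ : MulAut (PSLn n F)) := by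
  rw [mem_centGL_graph hn]
  refine ⟨c * c, ?_⟩
  have h1 : (scU c : GL (Fin n) F).val = (c : F) • (1 : Matrix (Fin n) (Fin n) F) := by
    show Matrix.scalar (Fin n) (c : F) = _
    rw [Matrix.scalar_apply, ← Matrix.smul_one_eq_diagonal]
  rw [h1, Matrix.transpose_smul, Matrix.transpose_one, Matrix.smul_mul, Matrix.one_mul,
    Matrix.mul_smul, Matrix.mul_one, smul_smul, Units.val_mul]

theorem det_scU (c : Fˣ) :
    Matrix.GeneralLinearGroup.det (scU c : GL (Fin n) F) = c ^ n := by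
  apply Units.ext
  rw [Matrix.GeneralLinearGroup.val_det_apply, Units.val_pow_eq_pow_val]
  show (Matrix.scalar (Fin n) (c : F)).det = _
  rw [Matrix.scalar_apply, Matrix.det_diagonal, Finset.prod_const, Finset.card_univ,
    Fintype.card_fin]

/-- **odd dimension**: the determinants of the centralising matrices are the `n`-th powers -/
theorem det_centGL_odd (hn : 2 ≤ n) (hodd : Odd n) (A : GL (Fin n) F) :
    (centGL (Dh A * Γ : MulAut (PSLn n F))).map
      (Matrix.GeneralLinearGroup.det : GL (Fin n) F →* Fˣ) = (powMonoidHom n : Fˣ →* Fˣ).range := by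
  apply le_antisymm
  · rintro _ ⟨h, hh, rfl⟩
    obtain ⟨d, -, hd⟩ := det_sq_of_mem hn A h hh
    obtain ⟨m, hm⟩ := hodd
    refine ⟨Matrix.GeneralLinearGroup.det h * (d ^ m)⁻¹, ?_⟩
    rw [powMonoidHom_apply]
    obtain ⟨t, ht⟩ : ∃ t, t = Matrix.GeneralLinearGroup.det h := ⟨_, rfl⟩
    rw [← ht] at hd ⊢
    -- `d = (t / d^m)^2`
    have h1 : d = (t * (d ^ m)⁻¹) ^ 2 := by
      rw [mul_pow, hd, hm, inv_pow, ← pow_mul, pow_succ, mul_comm m 2, mul_comm, ← mul_assoc,
        inv_mul_cancel, one_mul]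
    calc (t * (d ^ m)⁻¹) ^ n = (t * (d ^ m)⁻¹) * ((t * (d ^ m)⁻¹) ^ 2) ^ m := by
          rw [hm, ← pow_mul, pow_succ, mul_comm]
      _ = t := by rw [← h1, mul_assoc, inv_mul_cancel, mul_one]
  · rintro _ ⟨c, rfl⟩
    exact ⟨scU c, scalar_mem_centGL hn A c, by rw [det_scU, powMonoidHom_apply]⟩

/-- **characteristic two**: the determinants of the centralising matrices are the `n`-th
powers -/
theorem det_centGL_two [Fintype F] [CharP F 2] (hn : 2 ≤ n) (A : GL (Fin n) F) :
    (centGL (Dh A * Γ : MulAut (PSLn n F))).map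
      (Matrix.GeneralLinearGroup.det : GL (Fin n) F →* Fˣ) = (powMonoidHom n : Fˣ →* Fˣ).range := by
  apply le_antisymm
  · rintro _ ⟨h, hh, rfl⟩
    obtain ⟨d, -, hd⟩ := det_sq_of_mem hn A h hh
    have hs := sqrt_ne_zero (d : F) d.ne_zero
    refine ⟨Units.mk0 (Cfsg.Agent.S0304.sqrt (d : F)) hs, ?_⟩
    rw [powMonoidHom_apply]
    apply Units.ext
    apply sq_inj_two
    have h1 := congrArg Units.val hd
    rw [Units.val_pow_eq_pow_val, Units.val_pow_eq_pow_val] at h1
    rw [Units.val_pow_eq_pow_val, Units.val_mk0, h1, ← pow_mul, mul_comm, pow_mul,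
      Cfsg.Agent.S0304.sqrt_sq]
  · rintro _ ⟨c, rfl⟩
    exact ⟨scU c, scalar_mem_centGL hn A c, by rw [det_scU, powMonoidHom_apply]⟩

section skew

variable {m : ℕ}

/-- `diag(c, …, c, 1, …, 1)` -/
def dgM (c : F) : Matrix (Fin m ⊕ Fin m) (Fin m ⊕ Fin m) F :=
  Matrix.fromBlocks (c • (1 : Matrix (Fin m) (Fin m) F)) 0 0 1

theorem dgM_J (c : F) :
    dgM c * Matrix.J (Fin m) F * (dgM (m := m) c)ᵀ = c • Matrix.J (Fin m) F := by
  unfold dgM Matrix.J
  rw [Matrix.fromBlocks_transpose, Matrix.fromBlocks_multiply, Matrix.fromBlocks_multiply,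
    Matrix.fromBlocks_smul]
  simp

theorem dgM_det (c : F) : (dgM (m := m) c).det = c ^ m := by
  unfold dgM
  rw [Matrix.det_fromBlocks_zero₂₁, Matrix.det_one, mul_one, Matrix.det_smul, Matrix.det_one,
    mul_one, Fintype.card_fin]

/-- the determinant of a conformal symplectic matrix -/
theorem det_of_conformal (K : Matrix (Fin m ⊕ Fin m) (Fin m ⊕ Fin m) F) (d : F) (hd : d ≠ 0)
    (hK : K * Matrix.J (Fin m) F * Kᵀ = d • Matrix.J (Fin m) F) : K.det = d ^ m := by
  have h1 : (K * dgM d⁻¹) ∈ Matrix.symplecticGroup (Fin m) F := by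
    rw [SymplecticGroup.mem_iff, Matrix.transpose_mul]
    calc K * dgM d⁻¹ * Matrix.J (Fin m) F * ((dgM d⁻¹)ᵀ * Kᵀ)
        = K * (dgM d⁻¹ * Matrix.J (Fin m) F * (dgM d⁻¹)ᵀ) * Kᵀ := by
          simp only [Matrix.mul_assoc]
      _ = Matrix.J (Fin m) F := by
          rw [dgM_J, Matrix.mul_smul, Matrix.smul_mul, hK, smul_smul, inv_mul_cancel₀ hd,
            one_smul]
  have h2 := SymplecticGroup.det_eq_one h1
  rw [Matrix.det_mul, dgM_det, inv_pow] at h2
  have h3 : d ^ m ≠ 0 := pow_ne_zero _ hd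
  field_simp at h2
  exact h2

variable (r : Fin n ≃ Fin m ⊕ Fin m)

/-- **the symplectic type**: the determinants of the centralising matrices are the `m`-th
powers -/
theorem det_centGL_A1 (hn : 2 ≤ n) :
    (centGL (Dh (A1 r) * Γ : MulAut (PSLn n F))).map
      (Matrix.GeneralLinearGroup.det : GL (Fin n) F →* Fˣ) = (powMonoidHom m : Fˣ →* Fˣ).range := by
  apply le_antisymm
  · rintro _ ⟨h, hh, rfl⟩
    obtain ⟨d, hd⟩ := (mem_centGL_graph hn _ h).1 hh
    refine ⟨d, ?_⟩
    rw [powMonoidHom_apply]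
    apply Units.ext
    rw [Units.val_pow_eq_pow_val, Matrix.GeneralLinearGroup.val_det_apply]
    obtain ⟨K, hK⟩ : ∃ K : Matrix (Fin m ⊕ Fin m) (Fin m ⊕ Fin m) F,
        K = h.val.submatrix r.symm r.symm := ⟨_, rfl⟩
    have hhK : h.val = K.submatrix r r := by
      rw [hK, Matrix.submatrix_submatrix]
      ext i j
      simp
    have h1 : (K * Matrix.J (Fin m) F * Kᵀ).submatrix r r
        = ((d : F) • Matrix.J (Fin m) F).submatrix r r := by
      rw [← Matrix.submatrix_mul_equiv _ _ r r r, ← Matrix.submatrix_mul_equiv _ _ r r r,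
        ← Matrix.transpose_submatrix, ← hhK, ← A1_val, hd]
      rfl
    have h2 : K * Matrix.J (Fin m) F * Kᵀ = (d : F) • Matrix.J (Fin m) F := by
      have := congrArg (fun M => M.submatrix r.symm r.symm) h1
      simpa using this
    have := det_of_conformal K (d : F) d.ne_zero h2
    rw [hK, Matrix.det_submatrix_equiv_self] at this
    exact this.symm
  · rintro _ ⟨c, rfl⟩
    have hdet : ((dgM (m := m) (c : F)).submatrix r r).det ≠ 0 := by
      rw [Matrix.det_submatrix_equiv_self, dgM_det]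
      exact pow_ne_zero _ c.ne_zero
    refine ⟨Matrix.GeneralLinearGroup.mkOfDetNeZero _ hdet, ?_, ?_⟩
    · rw [SetLike.mem_coe, mem_centGL_graph hn]
      refine ⟨c, ?_⟩
      show (dgM (m := m) (c : F)).submatrix r r * (A1 (F := F) r).val *
        ((dgM (m := m) (c : F)).submatrix r r)ᵀ = _
      rw [A1_val, Matrix.transpose_submatrix, Matrix.submatrix_mul_equiv,
        Matrix.submatrix_mul_equiv, dgM_J, Matrix.submatrix_smul]
      rfl
    · apply Units.ext
      rw [powMonoidHom_apply, Units.val_pow_eq_pow_val, Matrix.GeneralLinearGroup.val_det_apply]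
      show ((dgM (m := m) (c : F)).submatrix r r).det = _
      rw [Matrix.det_submatrix_equiv_self, dgM_det]

end skew

end Cfsg.Agent.Lib.Helper8.GrInv
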