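import Cfsg.Agent.Lib.Helper8.GrInv.SplitA
import Cfsg.Agent.Lib.Helper8.QTypeE
import Cfsg.Agent.S0784
import Mathlib

/-!
# Class splitting of graph involutions of `PSL_n(F)`: the orthogonal types (helper8)
-/

set_option autoImplicit false
set_option linter.unusedSectionVars false

namespace Cfsg.Agent.Lib.Helper8.GrInv

open Matrix Cfsg Cfsg.Agent.AutPSLCount Cfsg.Agent.Lib.H7AutPSL Cfsg.Agent.Lib.H7GraphInv
open Cfsg.Agent.Lib.Helper8.QType

universe u

variable {F : Type u} [Field F] [Fintype F] {n : ℕ}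

/-- the determinant of a similarity of the inverse form -/
theorem det_of_quadSim (h2 : (2 : F) ≠ 0) {m : ℕ} (hnm : n = 2 * m) (A E : GL (Fin n) F)
    (hA : A.valᵀ = A.val) (c : F)
    (hE : ∀ v : Fin n → F, (E.val *ᵥ v) ⬝ᵥ (A⁻¹.val *ᵥ (E.val *ᵥ v)) = c * (v ⬝ᵥ (A⁻¹.val *ᵥ v))) :
    E.val.det = c ^ m ∨ E.val.det = -c ^ m := by
  have hAi := inv_symm A hA
  have key : E.valᵀ * A⁻¹.val * E.val = c • A⁻¹.val := by
    have hM : (E.valᵀ * A⁻¹.val * E.val - c • A⁻¹.val)ᵀ
        = E.valᵀ * A⁻¹.val * E.val - c • A⁻¹.val := by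
      rw [Matrix.transpose_sub, Matrix.transpose_mul, Matrix.transpose_mul,
        Matrix.transpose_transpose, Matrix.transpose_smul, hAi, Matrix.mul_assoc]
    have := symm_quad_zero h2 _ hM (fun v => by
      rw [Matrix.sub_mulVec, dotProduct_sub, quad_conj, hE, Matrix.smul_mulVec,
        dotProduct_smul, smul_eq_mul, sub_self])
    exact sub_eq_zero.1 this
  have h1 := congrArg Matrix.det key
  rw [Matrix.det_mul, Matrix.det_mul, Matrix.det_transpose, Matrix.det_smul, Fintype.card_fin]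
    at h1
  have hAd : A⁻¹.val.det ≠ 0 := ((Matrix.isUnit_iff_isUnit_det A⁻¹.val).1 A⁻¹.isUnit).ne_zero
  have h3 : E.val.det ^ 2 * A⁻¹.val.det = (c ^ m) ^ 2 * A⁻¹.val.det := by
    rw [← pow_mul, mul_comm m 2, ← hnm, ← h1]
    ring
  exact sq_eq_sq_iff_eq_or_eq_neg.1 (mul_right_cancel₀ hAd h3)

/-- a reflection of the inverse form, as a centralising matrix of determinant `-1` -/
theorem exists_refl (hn : 2 ≤ n) (h2 : (2 : F) ≠ 0) (A : GL (Fin n) F) (hA : A.valᵀ = A.val) :
    ∃ ρ : GL (Fin n) F, ρ ∈ centGL (Dh A * Γ : MulAut (PSLn n F)) ∧ ρ.val.det = -1 := by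
  have hAi := inv_symm A hA
  obtain ⟨v, hv⟩ : ∃ v : Fin n → F, qf A⁻¹.val v ≠ 0 := by
    by_contra hno
    have h0 : A⁻¹.val = 0 := symm_quad_zero h2 _ hAi (fun v => by
      by_contra h
      exact hno ⟨v, by rw [qf_apply]; exact h⟩)
    have h1 : (1 : Matrix (Fin n) (Fin n) F) = 0 := by
      rw [← Units.val_one, ← mul_inv_cancel A, Units.val_mul, h0, Matrix.mul_zero]
    have : Nonempty (Fin n) := ⟨⟨0, by omega⟩⟩
    exact one_ne_zero h1
  obtain ⟨hiso, -, -, hdet⟩ := Cfsg.Agent.S0784.result (qf A⁻¹.val) v hv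
  have hne : (Cfsg.reflectionMatrix (⇑(qf A⁻¹.val)) v).det ≠ 0 := by
    rw [hdet]
    exact neg_ne_zero.2 one_ne_zero
  refine ⟨Matrix.GeneralLinearGroup.mkOfDetNeZero _ hne, ?_, hdet⟩
  rw [centGL_graph_eq hn h2 A hA]
  refine ⟨1, fun x => ?_⟩
  have := hiso x
  rw [qf_apply, qf_apply] at this
  rw [Units.val_one, one_mul]
  exact this

/-- a similarity of the inverse form with a prescribed multiplier -/
theorem exists_sim_mult (hn : 2 ≤ n) (h2 : (2 : F) ≠ 0) {l : ℕ} (hnl : n = 2 * (l + 1))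
    (A : GL (Fin n) F) (hA : A.valᵀ = A.val) (c : Fˣ) :
    ∃ E : GL (Fin n) F, E ∈ centGL (Dh A * Γ : MulAut (PSLn n F)) ∧
      (E.val.det = (c : F) ^ (l + 1) ∨ E.val.det = -(c : F) ^ (l + 1)) := by
  have hAi := inv_symm A hA
  have hnd := nondeg_qf h2 A⁻¹.val hAi A.val
    (by rw [← Units.val_mul, mul_inv_cancel, Units.val_one])
  obtain ⟨ε, hε⟩ := exists_hasType (qf A⁻¹.val) hnd l
    (by rw [Module.finrank_fin_fun, hnl]; ring)
  obtain ⟨T⟩ := equiv_of_hasType (hasType_smul (c : F) c.ne_zero hε) hε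
  obtain ⟨E, hE⟩ := exists_gl_of_equiv T.toLinearEquiv
  have hq : ∀ v : Fin n → F,
      (E.val *ᵥ v) ⬝ᵥ (A⁻¹.val *ᵥ (E.val *ᵥ v)) = (c : F) * (v ⬝ᵥ (A⁻¹.val *ᵥ v)) := by
    intro v
    have := T.map_app v
    rw [QuadraticMap.smul_apply, smul_eq_mul, qf_apply, qf_apply] at this
    rw [hE]
    exact this
  refine ⟨E, ?_, det_of_quadSim h2 hnl A E hA (c : F) hq⟩
  rw [centGL_graph_eq hn h2 A hA]
  exact ⟨c, hq⟩

/-- **the orthogonal types**: the determinants of the centralising matrices are `± m`-th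
powers -/
theorem det_centGL_symm (hn : 2 ≤ n) (h2 : (2 : F) ≠ 0) {l : ℕ} (hnl : n = 2 * (l + 1))
    (A : GL (Fin n) F) (hA : A.valᵀ = A.val) :
    (centGL (Dh A * Γ : MulAut (PSLn n F))).map
      (Matrix.GeneralLinearGroup.det : GL (Fin n) F →* Fˣ) =
        Subgroup.zpowers (-1 : Fˣ) ⊔ (powMonoidHom (l + 1) : Fˣ →* Fˣ).range := by
  apply le_antisymm
  · rintro _ ⟨h, hh, rfl⟩
    obtain ⟨d, -, hd⟩ := det_sq_of_mem hn A h hh
    have h1 : (Matrix.GeneralLinearGroup.det h : F) ^ 2 = (((d ^ (l + 1) : Fˣ) : F)) ^ 2 := by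
      have := congrArg Units.val hd
      rw [Units.val_pow_eq_pow_val, Units.val_pow_eq_pow_val] at this
      rw [this, Units.val_pow_eq_pow_val, ← pow_mul, hnl, mul_comm]
    rcases sq_eq_sq_iff_eq_or_eq_neg.1 h1 with hs | hs
    · have : Matrix.GeneralLinearGroup.det h = d ^ (l + 1) := Units.ext hs
      rw [this]
      exact Subgroup.mem_sup_right ⟨d, rfl⟩
    · have : Matrix.GeneralLinearGroup.det h = (-1 : Fˣ) * d ^ (l + 1) := by
        apply Units.ext
        rw [hs, Units.val_mul, Units.val_neg, Units.val_one, neg_one_mul]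
      rw [this]
      exact Subgroup.mul_mem_sup (Subgroup.mem_zpowers _) ⟨d, rfl⟩
  · obtain ⟨ρ, hρ, hρd⟩ := exists_refl hn h2 A hA
    have hneg : (-1 : Fˣ) ∈ (centGL (Dh A * Γ : MulAut (PSLn n F))).map
        (Matrix.GeneralLinearGroup.det : GL (Fin n) F →* Fˣ) := by
      refine ⟨ρ, hρ, ?_⟩
      apply Units.ext
      rw [Matrix.GeneralLinearGroup.val_det_apply, hρd, Units.val_neg, Units.val_one]
    rw [sup_le_iff]
    constructor
    · rw [Subgroup.zpowers_le]
      exact hneg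
    · rintro _ ⟨c, rfl⟩
      obtain ⟨E, hE, hEd | hEd⟩ := exists_sim_mult hn h2 hnl A hA c
      · refine ⟨E, hE, ?_⟩
        apply Units.ext
        rw [Matrix.GeneralLinearGroup.val_det_apply, hEd, powMonoidHom_apply,
          Units.val_pow_eq_pow_val]
      · have hE' : (Matrix.GeneralLinearGroup.det E : Fˣ) = (-1 : Fˣ) * c ^ (l + 1) := by
          apply Units.ext
          rw [Matrix.GeneralLinearGroup.val_det_apply, hEd, Units.val_mul, Units.val_neg,
            Units.val_one, neg_one_mul, Units.val_pow_eq_pow_val]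
        have h3 : (powMonoidHom (l + 1) : Fˣ →* Fˣ) c
            = (-1 : Fˣ) * Matrix.GeneralLinearGroup.det E := by
          rw [hE', ← mul_assoc, powMonoidHom_apply]
          have : (-1 : Fˣ) * (-1 : Fˣ) = 1 := by
            apply Units.ext
            simp
          rw [this, one_mul]
        rw [h3]
        exact Subgroup.mul_mem _ hneg ⟨E, hE, rfl⟩

/-- the index of `± m`-th powers in the units of a finite field of odd order -/
theorem index_pm_pow (hodd : Odd (Fintype.card F)) (m : ℕ) :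
    (Subgroup.zpowers (-1 : Fˣ) ⊔ (powMonoidHom m : Fˣ →* Fˣ).range).index =
      Nat.gcd (2 * m) (Fintype.card F - 1) / 2 := by
  obtain ⟨u, hu⟩ := hodd
  have hG : Nat.card Fˣ = u * 2 := by
    rw [Nat.card_units, Nat.card_eq_fintype_card, hu]
    omega
  have h2 : (2 : F) ≠ 0 := by
    intro h
    have h1 : ringChar F = 2 := CharP.ringChar_of_prime_eq_zero Nat.prime_two h
    have h3 := FiniteField.even_card_iff_char_two.1 h1
    rw [hu] at h3
    omega
  have hne : (-1 : Fˣ) ≠ 1 := by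
    intro h
    have := congrArg Units.val h
    rw [Units.val_neg, Units.val_one] at this
    apply h2
    have h4 : (2 : F) = 1 - (-1) := by ring
    rw [h4, this, sub_self]
  have hord : orderOf (-1 : Fˣ) = 2 := by
    have := Fact.mk Nat.prime_two
    apply orderOf_eq_prime _ hne
    apply Units.ext
    simp
  have hcard : Nat.card (Subgroup.zpowers (-1 : Fˣ)) = 2 := by
    rw [Nat.card_zpowers, hord]
  rw [cyclic_subgroup_eq_range_pow (Subgroup.zpowers (-1 : Fˣ)) 2 u hcard hG,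
    range_pow_sup_range_pow, IsCyclic.index_powMonoidHom_range, hG, hu]
  have e1 : 2 * u + 1 - 1 = 2 * u := by omega
  rw [e1, Nat.gcd_mul_left, Nat.mul_div_cancel_left _ (by norm_num : 0 < 2)]
  rw [mul_comm u 2, Nat.gcd_comm u m]
  apply Nat.gcd_eq_right
  exact (Nat.gcd_dvd_right m u).trans (dvd_mul_left u 2)

end Cfsg.Agent.Lib.Helper8.GrInv
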