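import Cfsg.Agent.Lib.Helper8.GrInv.SplitB
import Cfsg.Agent.Lib.Helper5.OrthAut.Mult
import Cfsg.Agent.Lib.Helper7.AutPSp.Mult
import Cfsg.Agent.H9.OrthN
import Cfsg.Agent.S0245
import Cfsg.Agent.S0287
import Cfsg.Agent.S0288
import Mathlib

/-!
# `PGO_{2m}^±(q)` is not isomorphic to `PGSp_{2m}(q)` (helper8)

by comparing orders.
-/

set_option autoImplicit false
set_option linter.unusedSectionVars false

namespace Cfsg.Agent.Lib.Helper8.GrInv

open Matrix Cfsg

universe u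

section card

variable {F : Type u} [Field F] [Fintype F] {ι : Type} [Fintype ι] [DecidableEq ι] [Nonempty ι]

theorem card_scalars : Nat.card (Cfsg.Geo.scalars ι F) = Fintype.card F - 1 := by
  have hinj : Function.Injective
      (Units.map (Matrix.scalar ι : F →+* Matrix ι ι F).toMonoidHom) := by
    apply Units.map_injective
    intro a b hab
    exact Matrix.scalar_inj.1 hab
  unfold Cfsg.Geo.scalars
  rw [← Nat.card_congr (MonoidHom.ofInjective hinj).toEquiv, Nat.card_units,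
    Nat.card_eq_fintype_card]

theorem card_projQuot (H : Subgroup (GL ι F)) (hZ : Cfsg.Geo.scalars ι F ≤ H) :
    Nat.card (Cfsg.projQuot H) * (Fintype.card F - 1) = Nat.card H := by
  rw [Subgroup.card_eq_card_quotient_mul_card_subgroup ((Cfsg.Geo.scalars ι F).subgroupOf H),
    Nat.card_congr (Subgroup.subgroupOfEquivOfLe hZ).toEquiv, card_scalars]

end card

section orth

open Cfsg.Agent.Lib.Helper5.OrthAut Cfsg.Agent.H9.Orth

variable {F : Type u} [Field F] [Fintype F] {ι : Type} [Fintype ι] [DecidableEq ι] [Nonempty ι]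
variable {Q : (ι → F) → F}

/-- the multiplier as a homomorphism -/
noncomputable def muHom (hQ : Cfsg.Geo.IsNondegenerateQuadraticForm Q) :
    ↥(Cfsg.Geo.quadSimilarityGroup (F := F) Q) →* Fˣ where
  toFun := mu
  map_one' := mu_one hQ
  map_mul' := mu_mul hQ

theorem scalars_le_quadSim (hQ : Cfsg.Geo.IsNondegenerateQuadraticForm Q) :
    Cfsg.Geo.scalars ι F ≤ Cfsg.Geo.quadSimilarityGroup (F := F) Q := by
  intro z hz
  obtain ⟨c, hc⟩ := (Cfsg.Geo.mem_scalars_iff z).1 hz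
  refine ⟨c * c, fun v => ?_⟩
  rw [hc, Matrix.smul_mulVec, Matrix.one_mulVec, Q_smul hQ, Units.val_mul, sq]

/-- `|PGO(Q)| ≤ |O(Q)|` -/
theorem card_pgo_le (hQ : Cfsg.Geo.IsNondegenerateQuadraticForm Q) :
    Nat.card (Cfsg.PGO F Q) ≤ Nat.card ↥(Cfsg.isometryGroup F Q) := by
  have h1 := card_projQuot (Cfsg.Geo.quadSimilarityGroup (F := F) Q) (scalars_le_quadSim hQ)
  have h2 := Subgroup.card_mul_index (muHom hQ).ker
  rw [Subgroup.index_ker] at h2
  have h3 : Nat.card (muHom hQ).range ≤ Fintype.card F - 1 := by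
    rw [← Nat.card_eq_fintype_card, ← Nat.card_units]
    exact Subgroup.card_le_card_group _
  have h4 : Nat.card (muHom hQ).ker ≤ Nat.card ↥(Cfsg.isometryGroup F Q) := by
    have hmem : ∀ g : ↥(muHom hQ).ker, (g.1.1 : GL ι F) ∈ Cfsg.isometryGroup F Q := by
      intro g u v
      have hg : mu g.1 = 1 := g.2
      have := mu_spec g.1 u
      rw [hg, Units.val_one, one_mul] at this
      exact this
    apply Nat.card_le_card_of_injective (fun g => (⟨g.1.1, hmem g⟩ : ↥(Cfsg.isometryGroup F Q)))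
    intro g g' hgg
    have : g.1.1 = g'.1.1 :=
      congrArg (fun x : ↥(Cfsg.isometryGroup F Q) => (x : GL ι F)) hgg
    exact Subtype.ext (Subtype.ext this)
  have hq : 0 < Fintype.card F - 1 := by
    have := Fintype.one_lt_card (α := F)
    omega
  have h5 : Nat.card (Cfsg.PGO F Q) * (Fintype.card F - 1)
      ≤ Nat.card ↥(Cfsg.isometryGroup F Q) * (Fintype.card F - 1) := by
    rw [h1, ← h2]
    exact Nat.mul_le_mul h4 h3
  exact Nat.le_of_mul_le_mul_right h5 hq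

end orth

section symp

open Cfsg.Agent.Lib.H7AutPSp

variable {F : Type u} [Field F] [Fintype F] {m : ℕ}

theorem scalars_le_GSp : Cfsg.Geo.scalars (Fin m ⊕ Fin m) F ≤ Cfsg.GSp m F := by
  intro z hz
  obtain ⟨c, hc⟩ := (Cfsg.Geo.mem_scalars_iff z).1 hz
  refine ⟨c * c, fun u v => ?_⟩
  rw [hc, Matrix.smul_mulVec, Matrix.one_mulVec, Matrix.smul_mulVec, Matrix.one_mulVec]
  unfold Cfsg.sympForm
  rw [Matrix.mulVec_smul, smul_dotProduct, dotProduct_smul, smul_eq_mul, smul_eq_mul,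
    Units.val_mul, mul_assoc]

/-- `|Sp_{2m}(q)| ≤ |PGSp_{2m}(q)|` -/
theorem card_sp_le (hm : 1 ≤ m) :
    Nat.card ↥(Matrix.symplecticGroup (Fin m) F) ≤ Nat.card (Cfsg.PGSp m F) := by
  have : Nonempty (Fin m ⊕ Fin m) := ⟨Sum.inl ⟨0, hm⟩⟩
  have h1 := card_projQuot (Cfsg.GSp m F) (scalars_le_GSp (F := F) (m := m))
  have h2 := Subgroup.card_mul_index (multSp (F := F) hm).ker
  rw [Subgroup.index_ker, MonoidHom.range_eq_top.2 (multSp_surjective hm), Subgroup.card_top,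
    Nat.card_units, Nat.card_eq_fintype_card (α := F)] at h2
  have h4 : Nat.card ↥(Matrix.symplecticGroup (Fin m) F) ≤ Nat.card (multSp (F := F) hm).ker := by
    apply Nat.card_le_card_of_injective
      (fun s => (⟨toGSp s, multSp_toGSp hm s⟩ : ↥(multSp (F := F) hm).ker))
    intro s t hst
    have h5 : (toGSp s).1.val = (toGSp t).1.val :=
      congrArg (fun x : ↥(multSp (F := F) hm).ker => x.1.1.val) hst
    rw [toGSp_val, toGSp_val] at h5
    exact Subtype.ext h5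
  have hq : 0 < Fintype.card F - 1 := by
    have := Fintype.one_lt_card (α := F)
    omega
  have h5 : Nat.card ↥(Matrix.symplecticGroup (Fin m) F) * (Fintype.card F - 1)
      ≤ Nat.card (Cfsg.PGSp m F) * (Fintype.card F - 1) := by
    rw [h1, ← h2]
    exact Nat.mul_le_mul_right _ h4
  exact Nat.le_of_mul_le_mul_right h5 hq

end symp

section compare

theorem arith_key (a x P z : ℕ) (hz : z + 1 = x * x) (hx : 9 ≤ x) (ha : 0 < a) (hP : 0 < P) :
    2 * a * (x + 1) * P < a * x * (P * z) := by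
  have key : 2 * (x + 1) < x * z := by nlinarith
  calc 2 * a * (x + 1) * P = (2 * (x + 1)) * (a * P) := by ring
    _ < (x * z) * (a * P) := Nat.mul_lt_mul_of_pos_right key (Nat.mul_pos ha hP)
    _ = a * x * (P * z) := by ring

/-- `|O^±_{2m}(q)| < |Sp_{2m}(q)|` for `q ≥ 3`, `m ≥ 2`, in the shape of the order formulas -/
theorem order_lt (q k : ℕ) (hq : 3 ≤ q) (hk : 1 ≤ k) :
    2 * q ^ ((k + 1) * (k + 1 - 1)) * (q ^ (k + 1) + 1) *
        ∏ i ∈ Finset.range (k + 1 - 1), (q ^ (2 * (i + 1)) - 1) <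
      q ^ ((k + 1) ^ 2) * ∏ i ∈ Finset.range (k + 1), (q ^ (2 * (i + 1)) - 1) := by
  rw [Nat.add_sub_cancel, Finset.prod_range_succ]
  have hx : 9 ≤ q ^ (k + 1) := by
    calc 9 = 3 ^ 2 := by norm_num
      _ ≤ q ^ 2 := Nat.pow_le_pow_left hq 2
      _ ≤ q ^ (k + 1) := Nat.pow_le_pow_right (by omega) (by omega)
  have hP : 0 < ∏ i ∈ Finset.range k, (q ^ (2 * (i + 1)) - 1) := by
    apply Finset.prod_pos
    intro i _
    have : 1 < q ^ (2 * (i + 1)) := Nat.one_lt_pow (by omega) (by omega)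
    omega
  have ha : 0 < q ^ ((k + 1) * k) := pow_pos (by omega) _
  have e1 : q ^ ((k + 1) ^ 2) = q ^ ((k + 1) * k) * q ^ (k + 1) := by
    rw [← pow_add]
    congr 1
    ring
  have e2 : q ^ (2 * (k + 1)) = q ^ (k + 1) * q ^ (k + 1) := by
    rw [← pow_add]
    congr 1
    ring
  have hz : q ^ (2 * (k + 1)) - 1 + 1 = q ^ (k + 1) * q ^ (k + 1) := by
    rw [← e2]
    have : 1 ≤ q ^ (2 * (k + 1)) := Nat.one_le_pow _ _ (by omega)
    omega
  rw [e1]
  exact arith_key _ _ _ _ hz hx ha hP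

variable {F : Type u} [Field F] [Fintype F]

theorem three_le_card (hodd : Odd (Fintype.card F)) : 3 ≤ Fintype.card F := by
  have := Fintype.one_lt_card (α := F)
  obtain ⟨u, hu⟩ := hodd
  omega

/-- `PGO⁺_{2m}(q)` is not isomorphic to `PGSp_{2m}(q)` -/
theorem not_iso_plus (hodd : Odd (Fintype.card F)) (k : ℕ) (hk : 1 ≤ k) :
    ¬ Nonempty (Cfsg.PGO F (Cfsg.quadFormPlus (k + 1) F) ≃* Cfsg.PGSp (k + 1) F) := by
  rintro ⟨e⟩
  have h0 := Nat.card_congr e.toEquiv
  have : Nonempty (Fin (k + 1) ⊕ Fin (k + 1)) := ⟨Sum.inl 0⟩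
  have h1 := card_pgo_le (Cfsg.Agent.H9.Orth.isNondeg_quadFormPlus (F := F) (k + 1))
  have h2 := card_sp_le (F := F) (m := k + 1) (by omega)
  rw [Cfsg.Agent.S0287.result (F := F) rfl (k + 1) (by omega)] at h1
  rw [Cfsg.Agent.S0245.result (F := F) rfl (k + 1)] at h2
  have h3 := order_lt (Fintype.card F) k (three_le_card hodd) hk
  have h4 : 2 * Fintype.card F ^ ((k + 1) * (k + 1 - 1)) * (Fintype.card F ^ (k + 1) - 1) *
        ∏ i ∈ Finset.range (k + 1 - 1), (Fintype.card F ^ (2 * (i + 1)) - 1) ≤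
      2 * Fintype.card F ^ ((k + 1) * (k + 1 - 1)) * (Fintype.card F ^ (k + 1) + 1) *
        ∏ i ∈ Finset.range (k + 1 - 1), (Fintype.card F ^ (2 * (i + 1)) - 1) := by
    apply Nat.mul_le_mul_right
    apply Nat.mul_le_mul_left
    omega
  omega

/-- `PGO⁻_{2m}(q)` is not isomorphic to `PGSp_{2m}(q)` -/
theorem not_iso_minus (hodd : Odd (Fintype.card F)) (k : ℕ) (hk : 1 ≤ k) (a b : F)
    (hab : ∀ z₁ z₂ : F, z₁ ^ 2 + a * z₁ * z₂ + b * z₂ ^ 2 = 0 → z₁ = 0 ∧ z₂ = 0) :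
    ¬ Nonempty (Cfsg.PGO F (Cfsg.quadFormMinus k F a b) ≃* Cfsg.PGSp (k + 1) F) := by
  rintro ⟨e⟩
  have h0 := Nat.card_congr e.toEquiv
  have : Nonempty ((Fin k ⊕ Fin k) ⊕ Fin 2) := ⟨Sum.inr 0⟩
  have h1 := card_pgo_le (Cfsg.Agent.H9.Orth.isNondeg_quadFormMinus (F := F) k a b hab)
  have h2 := card_sp_le (F := F) (m := k + 1) (by omega)
  have h5 := Cfsg.Agent.S0288.result (F := F) rfl (k + 1) (by omega) a b hab
  rw [Nat.add_sub_cancel] at h5
  rw [h5] at h1
  rw [Cfsg.Agent.S0245.result (F := F) rfl (k + 1)] at h2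
  have h3 := order_lt (Fintype.card F) k (three_le_card hodd) hk
  rw [Nat.add_sub_cancel] at h3
  omega

end compare

end Cfsg.Agent.Lib.Helper8.GrInv
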