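import Cfsg.Agent.Lib.Helper8.GrInv.SplitC
import Cfsg.Agent.S2617
import Mathlib

/-!
# Class splitting of graph involutions of `PSL_n(F)`: the counts (helper8)
-/

set_option autoImplicit false
set_option linter.unusedSectionVars false

namespace Cfsg.Agent.Lib.Helper8.GrInv

open Matrix Cfsg Cfsg.Agent.AutPSLCount Cfsg.Agent.Lib.H7AutPSL Cfsg.Agent.Lib.H7GraphInv
open Cfsg.Agent.Lib.Helper8.QType

universe u

variable {F : Type u} [Field F] [Fintype F] {n : ℕ}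

theorem card_units_eq : Nat.card Fˣ = Fintype.card F - 1 := by
  rw [Nat.card_units, Nat.card_eq_fintype_card]

/-- the count in odd dimension -/
theorem count_odd (hn : 2 ≤ n) (hodd : Odd n) (A : GL (Fin n) F) :
    Cfsg.splitClassCount (Cfsg.inndiagPSL n F) (Cfsg.Inn (PSLn n F)) (Dh A * Γ) =
      Nat.gcd n (Fintype.card F - 1) := by
  rw [splitCount_eq hn, det_centGL_odd hn hodd, IsCyclic.index_powMonoidHom_range, card_units_eq,
    Nat.gcd_comm]

/-- the count in characteristic two -/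
theorem count_two [CharP F 2] (hn : 2 ≤ n) (A : GL (Fin n) F) :
    Cfsg.splitClassCount (Cfsg.inndiagPSL n F) (Cfsg.Inn (PSLn n F)) (Dh A * Γ) =
      Nat.gcd n (Fintype.card F - 1) := by
  rw [splitCount_eq hn, det_centGL_two hn, IsCyclic.index_powMonoidHom_range, card_units_eq,
    Nat.gcd_comm]

/-- the count for the symplectic type -/
theorem count_skew (hn : 2 ≤ n) (h2 : (2 : F) ≠ 0) {m : ℕ} (r : Fin n ≃ Fin m ⊕ Fin m)
    (A : GL (Fin n) F) (hA : A.valᵀ = -A.val) :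
    Cfsg.splitClassCount (Cfsg.inndiagPSL n F) (Cfsg.Inn (PSLn n F)) (Dh A * Γ) =
      Nat.gcd m (Fintype.card F - 1) := by
  rw [splitCount_conj hn (conj_skew r hn h2 A hA), splitCount_eq hn, det_centGL_A1 r hn,
    IsCyclic.index_powMonoidHom_range, card_units_eq, Nat.gcd_comm]

/-- the centraliser for the symplectic type -/
theorem cent_skew (hn : 2 ≤ n) (h2 : (2 : F) ≠ 0) {m : ℕ} (r : Fin n ≃ Fin m ⊕ Fin m)
    (A : GL (Fin n) F) (hA : A.valᵀ = -A.val) :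
    Nonempty (↥(Cfsg.inndiagPSL n F ⊓
      Subgroup.centralizer {(Dh A * Γ : MulAut (PSLn n F))}) ≃* Cfsg.PGSp m F) := by
  obtain ⟨e1⟩ := cent_equiv_of_conj _ _ _ (conj_skew r hn h2 A hA)
  obtain ⟨e2⟩ := cent_A1 (F := F) r hn
  exact ⟨e1.trans e2⟩

/-- the count for the orthogonal types -/
theorem count_symm (hn : 2 ≤ n) (hodd : Odd (Fintype.card F)) (h2 : (2 : F) ≠ 0) {l : ℕ}
    (hnl : n = 2 * (l + 1)) (A : GL (Fin n) F) (hA : A.valᵀ = A.val) :
    Cfsg.splitClassCount (Cfsg.inndiagPSL n F) (Cfsg.Inn (PSLn n F)) (Dh A * Γ) =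
      Nat.gcd n (Fintype.card F - 1) / 2 := by
  rw [splitCount_eq hn, det_centGL_symm hn h2 hnl A hA, index_pm_pow hodd, hnl]

/-- the centraliser of an orthogonal type is not `PGSp` -/
theorem cent_symm_not_pgsp (hn : 2 ≤ n) (hodd : Odd (Fintype.card F)) (h2 : (2 : F) ≠ 0) {l : ℕ}
    (hl : 1 ≤ l) (hnl : n = 2 * (l + 1)) (A : GL (Fin n) F) (hA : A.valᵀ = A.val) :
    ¬ Nonempty (↥(Cfsg.inndiagPSL n F ⊓
      Subgroup.centralizer {(Dh A * Γ : MulAut (PSLn n F))}) ≃* Cfsg.PGSp (l + 1) F) := by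
  classical
  rintro ⟨e⟩
  have hcP : Fintype.card (Fin n) = Fintype.card (Fin (l + 1) ⊕ Fin (l + 1)) := by
    simp only [Fintype.card_fin, Fintype.card_sum]; omega
  have hcM : Fintype.card (Fin n) = Fintype.card ((Fin l ⊕ Fin l) ⊕ Fin 2) := by
    simp only [Fintype.card_fin, Fintype.card_sum]; omega
  obtain ⟨rP⟩ : Nonempty (Fin n ≃ Fin (l + 1) ⊕ Fin (l + 1)) := ⟨Fintype.equivOfCardEq hcP⟩
  obtain ⟨rM⟩ : Nonempty (Fin n ≃ (Fin l ⊕ Fin l) ⊕ Fin 2) := ⟨Fintype.equivOfCardEq hcM⟩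
  obtain ⟨ζ, hζ⟩ := exists_rootless (F := F)
  have hab := Cfsg.Agent.S2617.aniso_of_rootless hζ
  have hTP := hasType_QP (F := F) l
  have hTM := hasType_QM (F := F) l 1 ζ hab
  have hA₂ := stdA_symm rP h2 _ hTP
  have hA₃ := stdA_symm rM h2 _ hTM
  have hAi := inv_symm A hA
  have hnd := nondeg_qf h2 A⁻¹.val hAi A.val
    (by rw [← Units.val_mul, mul_inv_cancel, Units.val_one])
  obtain ⟨ε, hε⟩ := exists_hasType (qf A⁻¹.val) hnd l
    (by rw [Module.finrank_fin_fun, hnl]; ring)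
  rcases hε.2.2.1 with rfl | rfl
  · obtain ⟨e1⟩ := cent_equiv_of_conj _ _ _
      (conj_of_hasType hn h2 _ A hA₂ hA (hasType_stdA rP h2 _ hTP) hε)
    obtain ⟨e2⟩ := cent_stdA rP hn h2 _ hTP (Cfsg.quadFormPlus (l + 1) F)
      (fun w => (Cfsg.Agent.S0287.QP_apply (l + 1) w).symm)
    exact not_iso_plus hodd l hl ⟨(e2.symm.trans e1).trans e⟩
  · obtain ⟨e1⟩ := cent_equiv_of_conj _ _ _
      (conj_of_hasType hn h2 _ A hA₃ hA (hasType_stdA rM h2 _ hTM) hε)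
    obtain ⟨e2⟩ := cent_stdA rM hn h2 _ hTM (Cfsg.quadFormMinus l F 1 ζ)
      (fun w => (Cfsg.Agent.S0288.QM_apply l 1 ζ w).symm)
    exact not_iso_minus hodd l hl 1 ζ hab ⟨(e2.symm.trans e1).trans e⟩

end Cfsg.Agent.Lib.Helper8.GrInv
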