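import Cfsg.Agent.Lib.Helper8.GrInv.SplitD
import Mathlib

/-!
# Similarities of symmetric and skew-symmetric matrices with prescribed multipliers (helper8)

Refinements of the statements of `SplitA`/`SplitB` keeping track of the multiplier: used for the
class splitting of graph involutions of `PSU_n(q)`.
-/

set_option autoImplicit false
set_option linter.unusedSectionVars false

namespace Cfsg.Agent.Lib.Helper8.GrInv

open Matrix Cfsg Cfsg.Agent.AutPSLCount Cfsg.Agent.Lib.H7AutPSL Cfsg.Agent.Lib.H7GraphInv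
open Cfsg.Agent.Lib.Helper8.QType

universe u

variable {F : Type u} [Field F] {n : ℕ}

/-! ### the skew-symmetric case -/

section skew

variable {m : ℕ} (r : Fin n ≃ Fin m ⊕ Fin m)

theorem det_of_sim_A1 (h : GL (Fin n) F) (d : Fˣ)
    (hd : h.val * (A1 (F := F) r).val * h.valᵀ = (d : F) • (A1 (F := F) r).val) :
    h.val.det = (d : F) ^ m := by
  obtain ⟨K, hK⟩ : ∃ K : Matrix (Fin m ⊕ Fin m) (Fin m ⊕ Fin m) F,
      K = h.val.submatrix r.symm r.symm := ⟨_, rfl⟩
  have hhK : h.val = K.submatrix r r := by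
    rw [hK, Matrix.submatrix_submatrix]
    ext i j
    simp
  have h1 : (K * Matrix.J (Fin m) F * Kᵀ).submatrix r r
      = ((d : F) • Matrix.J (Fin m) F).submatrix r r := by
    rw [← Matrix.submatrix_mul_equiv _ _ r r r, ← Matrix.submatrix_mul_equiv _ _ r r r,
      ← Matrix.transpose_submatrix, ← hhK, ← A1_val, hd]
    rfl
  have h2 : K * Matrix.J (Fin m) F * Kᵀ = (d : F) • Matrix.J (Fin m) F := by
    have := congrArg (fun M => M.submatrix r.symm r.symm) h1
    simpa using this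
  have := det_of_conformal K (d : F) d.ne_zero h2
  rw [hK, Matrix.det_submatrix_equiv_self] at this
  exact this

theorem exists_sim_A1 (c : Fˣ) :
    ∃ E : GL (Fin n) F, E.val * (A1 (F := F) r).val * E.valᵀ = (c : F) • (A1 (F := F) r).val := by
  have hdet : ((dgM (m := m) (c : F)).submatrix r r).det ≠ 0 := by
    rw [Matrix.det_submatrix_equiv_self, dgM_det]
    exact pow_ne_zero _ c.ne_zero
  refine ⟨Matrix.GeneralLinearGroup.mkOfDetNeZero _ hdet, ?_⟩
  show (dgM (m := m) (c : F)).submatrix r r * (A1 (F := F) r).val *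
    ((dgM (m := m) (c : F)).submatrix r r)ᵀ = _
  rw [A1_val, Matrix.transpose_submatrix, Matrix.submatrix_mul_equiv,
    Matrix.submatrix_mul_equiv, dgM_J, Matrix.submatrix_smul]
  rfl

/-- transporting a similarity along a congruence -/
theorem sim_transport (g A B h : GL (Fin n) F) (c : Fˣ) (d : F)
    (hg : g.val * A.val * g.valᵀ = (c : F) • B.val)
    (hd : h.val * A.val * h.valᵀ = d • A.val) :
    (g * h * g⁻¹).val * B.val * ((g * h * g⁻¹).val)ᵀ = d • B.val := by
  have hB : B.val = (c : F)⁻¹ • (g.val * A.val * g.valᵀ) := by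
    rw [hg, smul_smul, inv_mul_cancel₀ c.ne_zero, one_smul]
  have hgi : g⁻¹.val * g.val = 1 := by rw [← Units.val_mul, inv_mul_cancel, Units.val_one]
  have hgt : g.valᵀ * (g⁻¹.val)ᵀ = 1 := by
    rw [← Matrix.transpose_mul, hgi, Matrix.transpose_one]
  have e1 : (g * h * g⁻¹).val = g.val * h.val * g⁻¹.val := rfl
  rw [e1, Matrix.transpose_mul, Matrix.transpose_mul]
  calc g.val * h.val * g⁻¹.val * B.val * ((g⁻¹.val)ᵀ * (h.valᵀ * g.valᵀ))
      = (c : F)⁻¹ • (g.val * h.val * (g⁻¹.val * g.val) * A.val * (g.valᵀ * (g⁻¹.val)ᵀ) *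
          h.valᵀ * g.valᵀ) := by
        rw [hB]
        simp only [Matrix.mul_smul, Matrix.smul_mul, Matrix.mul_assoc]
    _ = (c : F)⁻¹ • (g.val * (h.val * A.val * h.valᵀ) * g.valᵀ) := by
        rw [hgi, hgt, Matrix.mul_one, Matrix.mul_one]
        simp only [Matrix.mul_assoc]
    _ = d • B.val := by
        rw [hd, hB, Matrix.mul_smul, Matrix.smul_mul, smul_comm]

theorem det_conj_gl (g h : GL (Fin n) F) : (g * h * g⁻¹).val.det = h.val.det := by
  have e1 : (g * h * g⁻¹).val = g.val * h.val * g⁻¹.val := rfl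
  rw [e1, Matrix.det_mul, Matrix.det_mul, mul_comm, ← mul_assoc, ← Matrix.det_mul,
    ← Units.val_mul, inv_mul_cancel, Units.val_one, Matrix.det_one, one_mul]

include r in
theorem det_of_sim_skew [Finite F] (hn : 2 ≤ n) (h2 : (2 : F) ≠ 0) (A : GL (Fin n) F)
    (hA : A.valᵀ = -A.val) (h : GL (Fin n) F) (d : Fˣ)
    (hd : h.val * A.val * h.valᵀ = (d : F) • A.val) : h.val.det = (d : F) ^ m := by
  obtain ⟨g, c, hg⟩ := (graph_conj_iff hn A (A1 r)).1 (conj_skew r hn h2 A hA)
  rw [← det_conj_gl g h]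
  exact det_of_sim_A1 r _ d (sim_transport g A (A1 r) h c d hg hd)

include r in
theorem exists_sim_skew [Finite F] (hn : 2 ≤ n) (h2 : (2 : F) ≠ 0) (A : GL (Fin n) F)
    (hA : A.valᵀ = -A.val) (c : Fˣ) :
    ∃ E : GL (Fin n) F, E.val * A.val * E.valᵀ = (c : F) • A.val := by
  obtain ⟨g, c₁, hg⟩ := (graph_conj_iff hn (A1 r) A).1
    (isConjUnder_symm _ (conj_skew r hn h2 A hA))
  obtain ⟨E₁, hE₁⟩ := exists_sim_A1 (F := F) r c
  exact ⟨g * E₁ * g⁻¹, sim_transport g (A1 r) A E₁ c₁ c hg hE₁⟩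

end skew

/-! ### the symmetric case -/

section symm

variable [Fintype F]

/-- from the quadratic form to the matrix identity -/
theorem congr_of_quad (h2 : (2 : F) ≠ 0) (A E : GL (Fin n) F) (hA : A.valᵀ = A.val) (c : F)
    (hE : ∀ v : Fin n → F,
      (E.val *ᵥ v) ⬝ᵥ (A⁻¹.val *ᵥ (E.val *ᵥ v)) = c * (v ⬝ᵥ (A⁻¹.val *ᵥ v))) :
    E.val * A.val * E.valᵀ = c • A.val := by
  have hAi := inv_symm A hA
  have key : E.valᵀ * A⁻¹.val * E.val = c • A⁻¹.val := by
    have hM : (E.valᵀ * A⁻¹.val * E.val - c • A⁻¹.val)ᵀ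
        = E.valᵀ * A⁻¹.val * E.val - c • A⁻¹.val := by
      rw [Matrix.transpose_sub, Matrix.transpose_mul, Matrix.transpose_mul,
        Matrix.transpose_transpose, Matrix.transpose_smul, hAi, Matrix.mul_assoc]
    have := symm_quad_zero h2 _ hM (fun v => by
      rw [Matrix.sub_mulVec, dotProduct_sub, quad_conj, hE, Matrix.smul_mulVec,
        dotProduct_smul, smul_eq_mul, sub_self])
    exact sub_eq_zero.1 this
  have h1 := inv_form_of_congr (gtr E) A⁻¹ A⁻¹ c (by
    rw [gtr_val, Matrix.transpose_transpose]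
    exact key)
  rw [gtr_val, Matrix.transpose_transpose, inv_inv] at h1
  exact h1

theorem det_of_sim_symm {m : ℕ} (hnm : n = 2 * m) (A h : GL (Fin n) F) (d : Fˣ)
    (hd : h.val * A.val * h.valᵀ = (d : F) • A.val) :
    h.val.det = (d : F) ^ m ∨ h.val.det = -(d : F) ^ m := by
  have h1 := congrArg Matrix.det hd
  rw [Matrix.det_mul, Matrix.det_mul, Matrix.det_transpose, Matrix.det_smul, Fintype.card_fin]
    at h1
  have hAd : A.val.det ≠ 0 := ((Matrix.isUnit_iff_isUnit_det A.val).1 A.isUnit).ne_zero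
  have h3 : h.val.det ^ 2 * A.val.det = ((d : F) ^ m) ^ 2 * A.val.det := by
    rw [← pow_mul, mul_comm m 2, ← hnm, ← h1]
    ring
  exact sq_eq_sq_iff_eq_or_eq_neg.1 (mul_right_cancel₀ hAd h3)

/-- a reflection: an isometry of determinant `-1` -/
theorem exists_refl_symm (hn : 2 ≤ n) (h2 : (2 : F) ≠ 0) (A : GL (Fin n) F)
    (hA : A.valᵀ = A.val) :
    ∃ ρ : GL (Fin n) F, ρ.val * A.val * ρ.valᵀ = A.val ∧ ρ.val.det = -1 := by
  have hAi := inv_symm A hA
  obtain ⟨v, hv⟩ : ∃ v : Fin n → F, qf A⁻¹.val v ≠ 0 := by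
    by_contra hno
    have h0 : A⁻¹.val = 0 := symm_quad_zero h2 _ hAi (fun v => by
      by_contra h
      exact hno ⟨v, by rw [qf_apply]; exact h⟩)
    have h1 : (1 : Matrix (Fin n) (Fin n) F) = 0 := by
      rw [← Units.val_one, ← mul_inv_cancel A, Units.val_mul, h0, Matrix.mul_zero]
    have : Nonempty (Fin n) := ⟨⟨0, by omega⟩⟩
    exact one_ne_zero h1
  obtain ⟨hiso, -, -, hdet⟩ := Cfsg.Agent.S0784.result (qf A⁻¹.val) v hv
  have hne : (Cfsg.reflectionMatrix (⇑(qf A⁻¹.val)) v).det ≠ 0 := by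
    rw [hdet]
    exact neg_ne_zero.2 one_ne_zero
  refine ⟨Matrix.GeneralLinearGroup.mkOfDetNeZero _ hne, ?_, hdet⟩
  have := congr_of_quad h2 A (Matrix.GeneralLinearGroup.mkOfDetNeZero _ hne) hA 1 (fun x => by
    have := hiso x
    rw [qf_apply, qf_apply] at this
    rw [one_mul]
    exact this)
  rw [one_smul] at this
  exact this

/-- a similarity with a prescribed multiplier -/
theorem exists_sim_symm (hn : 2 ≤ n) (h2 : (2 : F) ≠ 0) {l : ℕ} (hnl : n = 2 * (l + 1))
    (A : GL (Fin n) F) (hA : A.valᵀ = A.val) (c : Fˣ) :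
    ∃ E : GL (Fin n) F, E.val * A.val * E.valᵀ = (c : F) • A.val := by
  have hAi := inv_symm A hA
  have hnd := nondeg_qf h2 A⁻¹.val hAi A.val
    (by rw [← Units.val_mul, mul_inv_cancel, Units.val_one])
  obtain ⟨ε, hε⟩ := exists_hasType (qf A⁻¹.val) hnd l
    (by rw [Module.finrank_fin_fun, hnl]; ring)
  obtain ⟨T⟩ := equiv_of_hasType (hasType_smul (c : F) c.ne_zero hε) hε
  obtain ⟨E, hE⟩ := exists_gl_of_equiv T.toLinearEquiv
  refine ⟨E, congr_of_quad h2 A E hA (c : F) (fun v => ?_)⟩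
  have := T.map_app v
  rw [QuadraticMap.smul_apply, smul_eq_mul, qf_apply, qf_apply] at this
  rw [hE]
  exact this

end symm

end Cfsg.Agent.Lib.Helper8.GrInv
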