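import Cfsg.Agent.Lib.Helper8.GrInv.Types
import Cfsg.Agent.Lib.Helper7.AutPSp.SpHilbert90
import Mathlib

/-!
# Standard involutory graph automorphisms of `PSL_n(F)`, `n` even (helper8)

Reindexing along an equivalence `Fin n ≃ ι'`, the polar matrix of a quadratic form, the
symmetric graph involution attached to a quadratic form on `ι' → F` and its centraliser, and the
skew-symmetric graph involution with its centraliser `PGSp`.
-/

set_option autoImplicit false
set_option linter.unusedSectionVars false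

namespace Cfsg.Agent.Lib.Helper8.GrInv

open Matrix Cfsg Cfsg.Agent.AutPSLCount Cfsg.Agent.Lib.H7AutPSL Cfsg.Agent.Lib.H7GraphInv
open Cfsg.Agent.Lib.Helper8.QType QuadraticMap Module Cfsg.Agent.H9.QuadFin

universe u

variable {F : Type u} [Field F]

section reindex

variable {ι' : Type} [Fintype ι'] [DecidableEq ι'] {n : ℕ} (r : Fin n ≃ ι')

/-- the change of coordinates along `r` -/
noncomputable def eR : (Fin n → F) ≃ₗ[F] (ι' → F) := LinearEquiv.funCongrLeft F F r.symm

theorem eR_apply (v : Fin n → F) : eR r v = v ∘ r.symm := rfl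

theorem eR_symm_apply (w : ι' → F) : (eR (F := F) r).symm w = w ∘ r := by
  apply (eR (F := F) r).injective
  rw [LinearEquiv.apply_symm_apply, eR_apply]
  funext i
  simp

theorem dot_sub (M : Matrix ι' ι' F) (u v : Fin n → F) :
    u ⬝ᵥ (M.submatrix r r *ᵥ v) = (u ∘ r.symm) ⬝ᵥ (M *ᵥ (v ∘ r.symm)) := by
  rw [Matrix.submatrix_mulVec_equiv, comp_equiv_symm_dotProduct]

theorem qf_sub (M : Matrix ι' ι' F) (v : Fin n → F) :
    qf (M.submatrix r r) v = qf M (eR r v) := by
  rw [qf_apply, qf_apply, dot_sub]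
  rfl

/-- reindexing an invertible matrix -/
def subGL (P : GL ι' F) : GL (Fin n) F :=
  ⟨P.val.submatrix r r, P⁻¹.val.submatrix r r,
    by rw [Matrix.submatrix_mul_equiv, ← Units.val_mul, mul_inv_cancel, Units.val_one,
      Matrix.submatrix_one_equiv],
    by rw [Matrix.submatrix_mul_equiv, ← Units.val_mul, inv_mul_cancel, Units.val_one,
      Matrix.submatrix_one_equiv]⟩

theorem subGL_val (P : GL ι' F) : (subGL r P).val = P.val.submatrix r r := rfl

theorem subGL_inv_val (P : GL ι' F) : (subGL r P)⁻¹.val = P⁻¹.val.submatrix r r := rfl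

section ty

variable [Fintype F]

theorem hasType_sub (M : Matrix ι' ι' F) {l : ℕ} {ε : ℤ} (h : HasType (qf M) l ε) :
    HasType (qf (M.submatrix r r)) l ε := by
  refine HasType.congr (Q₁ := qf M) ?_ h
  refine ⟨(eR r).symm, fun w => ?_⟩
  show qf (M.submatrix r r) ((eR r).symm w) = qf M w
  rw [qf_sub, LinearEquiv.apply_symm_apply]

end ty

end reindex

section polar

variable {ι' : Type} [Fintype ι'] [DecidableEq ι']

/-- the polar matrix of a quadratic form on `ι' → F` -/
noncomputable def PolM (Q : QuadraticForm F (ι' → F)) : Matrix ι' ι' F :=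
  LinearMap.BilinForm.toMatrix' (polarBilin Q)

theorem dot_polM (Q : QuadraticForm F (ι' → F)) (u v : ι' → F) :
    u ⬝ᵥ (PolM Q *ᵥ v) = polar Q u v := by
  unfold PolM
  rw [← Matrix.toBilin'_apply', Matrix.toBilin'_toMatrix']
  rfl

theorem qf_polM (Q : QuadraticForm F (ι' → F)) (v : ι' → F) : qf (PolM Q) v = 2 * Q v := by
  rw [qf_apply, dot_polM]
  unfold polar
  have : Q (v + v) = 4 * Q v := by
    rw [← two_smul F v, QuadraticMap.map_smul, smul_eq_mul]
    ring
  rw [this]
  ring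

theorem polM_symm (Q : QuadraticForm F (ι' → F)) : (PolM Q)ᵀ = PolM Q := by
  ext i j
  unfold PolM
  rw [Matrix.transpose_apply, LinearMap.BilinForm.toMatrix'_apply,
    LinearMap.BilinForm.toMatrix'_apply]
  exact polar_comm _ _ _

/-- a symmetric matrix with nondegenerate quadratic form is invertible -/
theorem isUnit_of_nondeg (M : Matrix ι' ι' F) (hM : Mᵀ = M)
    (hnd : (polarBilin (qf M)).Nondegenerate) : IsUnit M := by
  rw [← Matrix.mulVec_injective_iff_isUnit]
  rw [nondeg_iff] at hnd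
  intro v w hvw
  have h0 : M *ᵥ (v - w) = 0 := by
    rw [Matrix.mulVec_sub]
    exact sub_eq_zero.2 hvw
  have : v - w = 0 := by
    apply hnd
    intro y
    rw [polar_comm, polar_qf M hM, h0, dotProduct_zero, mul_zero]
  exact sub_eq_zero.1 this

section ty

variable [Fintype F]

theorem hasType_polM (h2 : (2 : F) ≠ 0) (Q : QuadraticForm F (ι' → F)) {l : ℕ} {ε : ℤ}
    (h : HasType Q l ε) : HasType (qf (PolM Q)) l ε := by
  have e : qf (PolM Q) = (2 : F) • Q := by
    ext v
    rw [qf_polM]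
    rfl
  rw [e]
  exact hasType_smul 2 h2 h

end ty

end polar

section std

variable [Fintype F] {ι' : Type} [Fintype ι'] [DecidableEq ι'] {n : ℕ} (r : Fin n ≃ ι')

/-- the form matrix of the standard symmetric graph involution attached to `Q` -/
noncomputable def stdM (Q : QuadraticForm F (ι' → F)) : Matrix (Fin n) (Fin n) F :=
  (PolM Q).submatrix r r

theorem stdM_symm (Q : QuadraticForm F (ι' → F)) : (stdM r Q)ᵀ = stdM r Q := by
  unfold stdM
  rw [Matrix.transpose_submatrix, polM_symm]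

theorem hasType_stdM (h2 : (2 : F) ≠ 0) (Q : QuadraticForm F (ι' → F)) {l : ℕ} {ε : ℤ}
    (h : HasType Q l ε) : HasType (qf (stdM r Q)) l ε :=
  hasType_sub r _ (hasType_polM h2 Q h)

theorem isUnit_stdM (h2 : (2 : F) ≠ 0) (Q : QuadraticForm F (ι' → F)) {l : ℕ} {ε : ℤ}
    (h : HasType Q l ε) : IsUnit (stdM r Q) :=
  isUnit_of_nondeg _ (stdM_symm r Q) (hasType_stdM r h2 Q h).2.1

/-- the matrix `A` of the standard symmetric graph involution `Dh A * Γ` attached to `Q`: the
inverse of the (reindexed) polar matrix -/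
noncomputable def stdA (h2 : (2 : F) ≠ 0) (Q : QuadraticForm F (ι' → F)) {l : ℕ} {ε : ℤ}
    (h : HasType Q l ε) : GL (Fin n) F := ((isUnit_stdM r h2 Q h).unit)⁻¹

theorem stdA_inv_val (h2 : (2 : F) ≠ 0) (Q : QuadraticForm F (ι' → F)) {l : ℕ} {ε : ℤ}
    (h : HasType Q l ε) : (stdA r h2 Q h)⁻¹.val = stdM r Q := by
  unfold stdA
  rw [inv_inv]
  rfl

theorem stdA_symm (h2 : (2 : F) ≠ 0) (Q : QuadraticForm F (ι' → F)) {l : ℕ} {ε : ℤ}
    (h : HasType Q l ε) : (stdA r h2 Q h).valᵀ = (stdA r h2 Q h).val := by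
  have hM := stdM_symm r Q
  rw [← stdA_inv_val r h2 Q h] at hM
  set A := stdA r h2 Q h with hA
  have h1 : A.valᵀ * A⁻¹.val = 1 := by
    rw [← hM, ← Matrix.transpose_mul, ← Units.val_mul, inv_mul_cancel, Units.val_one,
      Matrix.transpose_one]
  calc A.valᵀ = A.valᵀ * (A⁻¹.val * A.val) := by
        rw [← Units.val_mul, inv_mul_cancel, Units.val_one, Matrix.mul_one]
    _ = A.val := by rw [← Matrix.mul_assoc, h1, Matrix.one_mul]

theorem hasType_stdA (h2 : (2 : F) ≠ 0) (Q : QuadraticForm F (ι' → F)) {l : ℕ} {ε : ℤ}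
    (h : HasType Q l ε) : HasType (qf (stdA r h2 Q h)⁻¹.val) l ε := by
  rw [stdA_inv_val]
  exact hasType_stdM r h2 Q h

/-- the centraliser of the standard symmetric graph involution attached to `Q` -/
theorem cent_stdA (hn : 2 ≤ n) (h2 : (2 : F) ≠ 0) (Q : QuadraticForm F (ι' → F)) {l : ℕ} {ε : ℤ}
    (h : HasType Q l ε) (Q' : (ι' → F) → F) (hQ' : ∀ w, Q' w = Q w) :
    Nonempty (↥(Cfsg.inndiagPSL n F ⊓
      Subgroup.centralizer {(Dh (stdA r h2 Q h) * Γ : MulAut (PSLn n F))}) ≃* Cfsg.PGO F Q') := by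
  rw [inndiag_eq_Dsub]
  refine cent_graph_pgo hn h2 (stdA r h2 Q h) (stdA_symm r h2 Q h) Q' (eR r) (2 : F)⁻¹
    (inv_ne_zero h2) (fun v => ?_)
  rw [stdA_inv_val, ← qf_apply]
  unfold stdM
  rw [qf_sub, qf_polM, hQ', ← mul_assoc, inv_mul_cancel₀ h2, one_mul]

end std

end Cfsg.Agent.Lib.Helper8.GrInv
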