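import Cfsg.Agent.Lib.Helper8.GrInv.Basic
import Mathlib

/-!
# Symmetric graph involutions of `PSL_n(F)` and the type of their quadratic forms (helper8)
-/

set_option autoImplicit false
set_option linter.unusedSectionVars false

namespace Cfsg.Agent.Lib.Helper8.GrInv

open Matrix Cfsg Cfsg.Agent.AutPSLCount Cfsg.Agent.Lib.H7AutPSL Cfsg.Agent.Lib.H7GraphInv
open Cfsg.Agent.Lib.Helper8.QType QuadraticMap Module Cfsg.Agent.H9.QuadFin

universe u

variable {F : Type u} [Field F]

section forms

variable {ι : Type} [Fintype ι] [DecidableEq ι]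

/-- the polar form of the quadratic form of a symmetric matrix -/
theorem polar_qf (M : Matrix ι ι F) (hM : Mᵀ = M) (u v : ι → F) :
    polar (qf M) u v = 2 * (u ⬝ᵥ (M *ᵥ v)) := by
  unfold polar
  rw [qf_apply, qf_apply, qf_apply, Matrix.mulVec_add, add_dotProduct, dotProduct_add,
    dotProduct_add]
  have h1 : v ⬝ᵥ (M *ᵥ u) = u ⬝ᵥ (M *ᵥ v) := by
    rw [Matrix.dotProduct_mulVec, ← Matrix.mulVec_transpose, hM, dotProduct_comm]
  rw [h1]
  ring

/-- the quadratic form of an invertible symmetric matrix is nondegenerate (characteristic not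
two) -/
theorem nondeg_qf (h2 : (2 : F) ≠ 0) (M : Matrix ι ι F) (hM : Mᵀ = M) (N : Matrix ι ι F)
    (hNM : N * M = 1) : (polarBilin (qf M)).Nondegenerate := by
  rw [nondeg_iff]
  intro x hx
  have h1 : ∀ y, x ⬝ᵥ (M *ᵥ y) = 0 := by
    intro y
    have := hx y
    rw [polar_qf M hM] at this
    rcases mul_eq_zero.1 this with h | h
    · exact absurd h h2
    · exact h
  have h3 : Matrix.vecMul x M = 0 := by
    funext j
    have := h1 (Pi.single j 1)
    rw [Matrix.dotProduct_mulVec, dotProduct_single, mul_one] at this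
    exact this
  have h4 : Matrix.vecMul (Matrix.vecMul x M) Nᵀᵀ = 0 := by rw [h3, Matrix.zero_vecMul]
  have hMN : M * N = 1 := by
    exact mul_eq_one_comm.1 hNM
  rw [Matrix.transpose_transpose, Matrix.vecMul_vecMul, hMN, Matrix.vecMul_one] at h4
  exact h4

end forms

section types

variable [Fintype F] {V : Type*} [AddCommGroup V] [Module F V] [FiniteDimensional F V]

/-- scaling a form by a non-zero scalar does not change its type -/
theorem hasType_smul {Q : QuadraticForm F V} {l : ℕ} {ε : ℤ} (c : F) (hc : c ≠ 0)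
    (h : HasType Q l ε) : HasType (c • Q) l ε := by
  obtain ⟨hV, hQ, hε, hz⟩ := h
  refine ⟨hV, ?_, hε, ?_⟩
  · rw [nondeg_iff] at hQ ⊢
    intro x hx
    apply hQ
    intro y
    have := hx y
    have e : polar (⇑(c • Q)) x y = c * polar (⇑Q) x y := by
      unfold polar
      simp only [QuadraticMap.smul_apply, smul_eq_mul]
      ring
    rw [e] at this
    rcases mul_eq_zero.1 this with h | h
    · exact absurd h hc
    · exact h
  · have e : nc (c • Q) 0 = nc Q 0 := by
      unfold nc
      apply Nat.card_congr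
      apply Equiv.subtypeEquivRight
      intro v
      rw [QuadraticMap.smul_apply, smul_eq_mul]
      constructor
      · intro h
        rcases mul_eq_zero.1 h with h | h
        · exact absurd h hc
        · exact h
      · intro h
        rw [h, mul_zero]
    rw [e]
    exact hz

end types

section gl

variable {n : ℕ}

/-- an invertible matrix as a linear equivalence -/
noncomputable def glEquiv (g : GL (Fin n) F) : (Fin n → F) ≃ₗ[F] (Fin n → F) where
  toFun v := g.val *ᵥ v
  invFun v := g⁻¹.val *ᵥ v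
  map_add' u v := Matrix.mulVec_add _ u v
  map_smul' c v := by
    rw [Matrix.mulVec_smul]
    rfl
  left_inv v := by
    show g⁻¹.val *ᵥ (g.val *ᵥ v) = v
    rw [Matrix.mulVec_mulVec, ← Units.val_mul, inv_mul_cancel, Units.val_one, Matrix.one_mulVec]
  right_inv v := by
    show g.val *ᵥ (g⁻¹.val *ᵥ v) = v
    rw [Matrix.mulVec_mulVec, ← Units.val_mul, mul_inv_cancel, Units.val_one, Matrix.one_mulVec]

theorem glEquiv_apply (g : GL (Fin n) F) (v : Fin n → F) : glEquiv g v = g.val *ᵥ v := rfl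

variable [Fintype F]

/-- congruent matrices (up to a scalar) have inverse forms of the same type -/
theorem hasType_of_congr (g A B : GL (Fin n) F) (d : Fˣ)
    (h : g.val * A.val * g.valᵀ = (d : F) • B.val) {l : ℕ} {ε : ℤ}
    (hA : HasType (qf A⁻¹.val) l ε) : HasType (qf B⁻¹.val) l ε := by
  have h1 := inv_form_of_congr g A B d h
  have h2 := hasType_smul (d : F) d.ne_zero hA
  refine HasType.congr (Q₁ := (d : F) • qf A⁻¹.val) ?_ h2
  refine ⟨glEquiv g, fun v => ?_⟩
  show qf B⁻¹.val (glEquiv g v) = ((d : F) • qf A⁻¹.val) v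
  rw [glEquiv_apply, qf_apply, ← quad_conj, h1, QuadraticMap.smul_apply, qf_apply,
    Matrix.smul_mulVec, dotProduct_smul]

/-- symmetric graph involutions whose forms have different types are not conjugate -/
theorem not_conj_of_types (hn : 2 ≤ n) (A B : GL (Fin n) F) {l : ℕ}
    (hA : HasType (qf A⁻¹.val) l 1) (hB : HasType (qf B⁻¹.val) l (-1)) :
    ¬ Cfsg.IsConjUnder (Cfsg.inndiagPSL n F) (Dh A * Γ : MulAut (PSLn n F)) (Dh B * Γ) := by
  rw [graph_conj_iff hn]
  rintro ⟨g, d, hd⟩
  have h1 := hasType_of_congr g A B d hd hA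
  have := h1.unique hB
  omega

/-- the matrix of a linear equivalence of `Fⁿ` -/
theorem exists_gl_of_equiv (T : (Fin n → F) ≃ₗ[F] (Fin n → F)) :
    ∃ E : GL (Fin n) F, ∀ v, E.val *ᵥ v = T v := by
  refine ⟨⟨LinearMap.toMatrix' T.toLinearMap, LinearMap.toMatrix' T.symm.toLinearMap, ?_, ?_⟩,
    fun v => ?_⟩
  · rw [← LinearMap.toMatrix'_comp]
    have : T.toLinearMap ∘ₗ T.symm.toLinearMap = LinearMap.id := by
      ext v : 1
      simp
    rw [this, LinearMap.toMatrix'_id]
  · rw [← LinearMap.toMatrix'_comp]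
    have : T.symm.toLinearMap ∘ₗ T.toLinearMap = LinearMap.id := by
      ext v : 1
      simp
    rw [this, LinearMap.toMatrix'_id]
  · show LinearMap.toMatrix' T.toLinearMap *ᵥ v = T v
    rw [LinearMap.toMatrix'_mulVec]
    rfl

/-- symmetric graph involutions whose forms have the same type are conjugate -/
theorem conj_of_hasType (hn : 2 ≤ n) (h2 : (2 : F) ≠ 0) (A B : GL (Fin n) F)
    (hA : A.valᵀ = A.val) (hB : B.valᵀ = B.val) {l : ℕ} {ε : ℤ}
    (h₁ : HasType (qf A⁻¹.val) l ε) (h₂ : HasType (qf B⁻¹.val) l ε) :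
    Cfsg.IsConjUnder (Cfsg.inndiagPSL n F) (Dh A * Γ : MulAut (PSLn n F)) (Dh B * Γ) := by
  rw [graph_conj_iff hn]
  obtain ⟨T⟩ := equiv_of_hasType h₁ h₂
  obtain ⟨E, hE⟩ := exists_gl_of_equiv T.toLinearEquiv
  have hAi : A⁻¹.valᵀ = A⁻¹.val := by
    have h1 : A⁻¹.valᵀ * A.val = 1 := by
      rw [← hA, ← Matrix.transpose_mul, ← Units.val_mul, mul_inv_cancel, Units.val_one,
        Matrix.transpose_one]
    calc A⁻¹.valᵀ = A⁻¹.valᵀ * (A.val * A⁻¹.val) := by
          rw [← Units.val_mul, mul_inv_cancel, Units.val_one, Matrix.mul_one]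
      _ = A⁻¹.val := by rw [← Matrix.mul_assoc, h1, Matrix.one_mul]
  have hBi : B⁻¹.valᵀ = B⁻¹.val := by
    have h1 : B⁻¹.valᵀ * B.val = 1 := by
      rw [← hB, ← Matrix.transpose_mul, ← Units.val_mul, mul_inv_cancel, Units.val_one,
        Matrix.transpose_one]
    calc B⁻¹.valᵀ = B⁻¹.valᵀ * (B.val * B⁻¹.val) := by
          rw [← Units.val_mul, mul_inv_cancel, Units.val_one, Matrix.mul_one]
      _ = B⁻¹.val := by rw [← Matrix.mul_assoc, h1, Matrix.one_mul]
  -- `Eᵀ B⁻¹ E = A⁻¹`
  have key : E.valᵀ * B⁻¹.val * E.val = A⁻¹.val := by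
    have hM : (E.valᵀ * B⁻¹.val * E.val - A⁻¹.val)ᵀ = E.valᵀ * B⁻¹.val * E.val - A⁻¹.val := by
      rw [Matrix.transpose_sub, Matrix.transpose_mul, Matrix.transpose_mul,
        Matrix.transpose_transpose, hBi, hAi, Matrix.mul_assoc]
    have := symm_quad_zero h2 _ hM (fun v => by
      rw [Matrix.sub_mulVec, dotProduct_sub, quad_conj, hE, ← qf_apply, ← qf_apply]
      have := T.map_app v
      rw [sub_eq_zero]
      exact this)
    exact sub_eq_zero.1 this
  -- hence `E A Eᵀ = B`
  refine ⟨E, 1, ?_⟩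
  rw [Units.val_one, one_smul]
  have hE1 : E⁻¹.val * E.val = 1 := by rw [← Units.val_mul, inv_mul_cancel, Units.val_one]
  have hE2 : E.val * E⁻¹.val = 1 := by rw [← Units.val_mul, mul_inv_cancel, Units.val_one]
  have hA1 : A.val * A⁻¹.val = 1 := by rw [← Units.val_mul, mul_inv_cancel, Units.val_one]
  have hB1 : B⁻¹.val * B.val = 1 := by rw [← Units.val_mul, inv_mul_cancel, Units.val_one]
  have hB2 : B.val * B⁻¹.val = 1 := by rw [← Units.val_mul, mul_inv_cancel, Units.val_one]
  have h3 : E.val * A.val * E.valᵀ * B⁻¹.val = 1 := by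
    calc E.val * A.val * E.valᵀ * B⁻¹.val
        = E.val * A.val * (E.valᵀ * B⁻¹.val * E.val) * E⁻¹.val := by
          simp only [Matrix.mul_assoc]
          rw [hE2, Matrix.mul_one]
      _ = 1 := by
          rw [key, Matrix.mul_assoc E.val, hA1, Matrix.mul_one, hE2]
  calc E.val * A.val * E.valᵀ = E.val * A.val * E.valᵀ * (B⁻¹.val * B.val) := by
        rw [hB1, Matrix.mul_one]
    _ = B.val := by rw [← Matrix.mul_assoc, h3, Matrix.one_mul]

end gl

end Cfsg.Agent.Lib.Helper8.GrInv
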